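import Mathlib

/-!
# Linear algebra lemmas for the Eisenbud–Evans basic element argument
-/

namespace Groth.Agent.Helper9.BasicElt

open Module

section LA

variable {K V : Type*} [Field K] [AddCommGroup V] [Module K V]

/-- the modified family `u i = v (castSucc i) + α i • v (last)` -/
def shear {r : ℕ} (v : Fin (r + 1) → V) (α : Fin r → K) : Fin r → V :=
  fun i => v (Fin.castSucc i) + α i • v (Fin.last r)

theorem span_le_shear_sup {r : ℕ} (v : Fin (r + 1) → V) (α : Fin r → K) :
    Submodule.span K (Set.range v) ≤
      Submodule.span K (Set.range (shear v α)) ⊔ Submodule.span K {v (Fin.last r)} := by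
  rw [Submodule.span_le]
  rintro _ ⟨i, rfl⟩
  refine Fin.lastCases ?_ (fun j => ?_) i
  · exact Submodule.mem_sup_right (Submodule.subset_span rfl)
  · have h1 : v (Fin.castSucc j) = shear v α j + (-(α j)) • v (Fin.last r) := by
      simp [shear]
    rw [SetLike.mem_coe, h1]
    exact Submodule.add_mem_sup (Submodule.subset_span ⟨j, rfl⟩)
      (Submodule.smul_mem _ _ (Submodule.subset_span rfl))

theorem shear_span_le {r : ℕ} (v : Fin (r + 1) → V) (α : Fin r → K) :
    Submodule.span K (Set.range (shear v α)) ≤ Submodule.span K (Set.range v) := by
  rw [Submodule.span_le]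
  rintro _ ⟨i, rfl⟩
  exact Submodule.add_mem _ (Submodule.subset_span ⟨_, rfl⟩)
    (Submodule.smul_mem _ _ (Submodule.subset_span ⟨_, rfl⟩))

/-- dropping one vector loses at most one dimension -/
theorem finrank_span_le_shear_add_one {r : ℕ} (v : Fin (r + 1) → V) (α : Fin r → K) :
    finrank K (Submodule.span K (Set.range v)) ≤
      finrank K (Submodule.span K (Set.range (shear v α))) + 1 := by
  have hfin1 : FiniteDimensional K (Submodule.span K (Set.range (shear v α))) :=
    FiniteDimensional.span_of_finite K (Set.finite_range _)
  have hfin2 : FiniteDimensional K (Submodule.span K {v (Fin.last r)}) :=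
    FiniteDimensional.span_of_finite K (Set.finite_singleton _)
  calc finrank K (Submodule.span K (Set.range v))
      ≤ finrank K ↥(Submodule.span K (Set.range (shear v α)) ⊔
          Submodule.span K {v (Fin.last r)}) :=
        Submodule.finrank_mono (span_le_shear_sup v α)
    _ ≤ finrank K (Submodule.span K (Set.range (shear v α))) +
          finrank K (Submodule.span K {v (Fin.last r)}) := Submodule.finrank_add_le_finrank_add_finrank _ _
    _ ≤ finrank K (Submodule.span K (Set.range (shear v α))) + 1 := by
        gcongr
        exact le_trans (finrank_span_le_card ({v (Fin.last r)} : Set V)) (by simp)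

theorem exists_update_finrank_ge {r : ℕ} (v : Fin (r + 1) → V) (α : Fin r → K) (w : ℕ)
    (hw : w ≤ finrank K (Submodule.span K (Set.range v))) :
    min r w ≤ finrank K (Submodule.span K (Set.range (shear v α))) ∨
    ∃ i : Fin r, ∀ β : K, β ≠ 0 →
      min r w ≤ finrank K (Submodule.span K (Set.range
        (shear v (Function.update α i (α i + β))))) := by
  classical
  by_cases hcase : min r w ≤ finrank K (Submodule.span K (Set.range (shear v α)))
  · exact Or.inl hcase
  right
  push Not at hcase
  set U := Submodule.span K (Set.range (shear v α)) with hU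
  have hfinU : FiniteDimensional K U := FiniteDimensional.span_of_finite K (Set.finite_range _)
  have h1 := finrank_span_le_shear_add_one v α
  have hUlt_r : finrank K U < r := lt_of_lt_of_le hcase (min_le_left _ _)
  have hUw : finrank K U + 1 ≥ w := le_trans hw h1
  -- the family `shear v α` is linearly dependent
  have hdep : ¬ LinearIndependent K (shear v α) := by
    intro hli
    have h7 : finrank K U = r := by
      rw [hU, finrank_span_eq_card hli, Fintype.card_fin]
    omega
  rw [linearIndependent_iff_notMem_span] at hdep
  push Not at hdep
  obtain ⟨i, hi⟩ := hdep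
  refine ⟨i, fun β hβ => ?_⟩
  -- `v last ∉ U`
  have hlast : v (Fin.last r) ∉ U := by
    intro hmem
    have hle : Submodule.span K (Set.range v) ≤ U := by
      refine le_trans (span_le_shear_sup v α) ?_
      rw [sup_le_iff]
      exact ⟨le_rfl, by rw [Submodule.span_singleton_le_iff_mem]; exact hmem⟩
    have := Submodule.finrank_mono hle
    omega
  set α' := Function.update α i (α i + β) with hα'
  set U' := Submodule.span K (Set.range (shear v α')) with hU'
  have hfinU' : FiniteDimensional K U' := FiniteDimensional.span_of_finite K (Set.finite_range _)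
  have hothers : ∀ j, j ≠ i → shear v α' j = shear v α j := by
    intro j hj
    simp [shear, hα', Function.update_of_ne hj]
  have hi' : shear v α' i = shear v α i + β • v (Fin.last r) := by
    simp [shear, hα', add_smul, add_assoc]
  -- `U ≤ U'`
  have hspan_others : Submodule.span K (shear v α '' (Set.univ \ {i})) ≤ U' := by
    rw [Submodule.span_le]
    rintro _ ⟨j, ⟨-, hj⟩, rfl⟩
    rw [← hothers j hj]
    exact Submodule.subset_span ⟨j, rfl⟩
  have hUU' : U ≤ U' := by
    rw [hU, Submodule.span_le]
    rintro _ ⟨j, rfl⟩
    by_cases hj : j = i
    · subst hj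
      exact hspan_others hi
    · rw [← hothers j hj]
      exact Submodule.subset_span ⟨j, rfl⟩
  have hlast' : v (Fin.last r) ∈ U' := by
    have h2 : shear v α' i ∈ U' := Submodule.subset_span ⟨i, rfl⟩
    have h3 : shear v α i ∈ U' := hUU' (Submodule.subset_span ⟨i, rfl⟩)
    rw [hi'] at h2
    have h4 : β • v (Fin.last r) ∈ U' := by
      have := Submodule.sub_mem _ h2 h3
      simpa using this
    have h5 := Submodule.smul_mem U' β⁻¹ h4
    rwa [smul_smul, inv_mul_cancel₀ hβ, one_smul] at h5
  have hlt : U < U' := lt_of_le_of_ne hUU' (fun h => hlast (h ▸ hlast'))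
  have := Submodule.finrank_lt_finrank_of_lt hlt
  have h6 : min r w ≤ w := min_le_right _ _
  omega

/-- from a family spanning a space of dimension at least `w`, extract `w` independent members -/
theorem exists_linearIndependent_comp {ι : Type*} [Finite ι] (v : ι → V) (w : ℕ)
    (hw : w ≤ finrank K (Submodule.span K (Set.range v))) :
    ∃ j : Fin w → ι, LinearIndependent K (v ∘ j) := by
  classical
  obtain ⟨b, hb, hspan, hli⟩ := exists_linearIndependent K (Set.range v)
  have hbfin : b.Finite := (Set.finite_range v).subset hb
  have : Fintype b := hbfin.fintype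
  have hcard : finrank K (Submodule.span K b) = Fintype.card b := by
    have h1 : LinearIndepOn K id b := hli
    rw [finrank_span_set_eq_card h1, Set.toFinset_card]
  rw [← hspan, hcard] at hw
  obtain ⟨emb⟩ := Function.Embedding.nonempty_of_card_le (α := Fin w) (β := b)
    (by rw [Fintype.card_fin]; exact hw)
  have hpre : ∀ x : b, ∃ i : ι, v i = x := fun x => hb x.2
  choose pre hpre using hpre
  refine ⟨fun a => pre (emb a), ?_⟩
  have : v ∘ (fun a => pre (emb a)) = (Subtype.val : b → V) ∘ emb := by
    funext a
    simp [hpre]
  rw [this]
  exact hli.comp emb emb.injective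

/-- linearly independent functions are separated by finitely many points -/
theorem exists_det_ne_zero_of_linearIndependent {S : Type*} {w : ℕ} (f : Fin w → (S → K))
    (hf : LinearIndependent K f) :
    ∃ s : Fin w → S, (Matrix.of fun a b => f b (s a)).det ≠ 0 := by
  classical
  set T : S → (Fin w → K) := fun s b => f b s with hT
  have htop : Submodule.span K (Set.range T) = ⊤ := by
    by_contra hne
    obtain ⟨lam, hlam0, hle⟩ := Submodule.exists_le_ker_of_lt_top _ (lt_top_iff_ne_top.mpr hne)
    set c : Fin w → K := fun i => lam (fun j => if i = j then 1 else 0) with hc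
    have hlam : ∀ x : Fin w → K, lam x = ∑ i, x i * c i := by
      intro x
      rw [LinearMap.pi_apply_eq_sum_univ lam x]
      simp [hc, smul_eq_mul]
    have hzero : ∑ i, c i • f i = 0 := by
      funext s
      have h1 : lam (T s) = 0 := hle (Submodule.subset_span ⟨s, rfl⟩)
      rw [hlam] at h1
      simp only [Finset.sum_apply, Pi.smul_apply, smul_eq_mul, Pi.zero_apply]
      rw [← h1]
      exact Finset.sum_congr rfl (fun i _ => mul_comm _ _)
    have hc0 : ∀ i, c i = 0 := by
      have := Fintype.linearIndependent_iff.mp hf c hzero
      exact this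
    apply hlam0
    refine LinearMap.ext (fun x => ?_)
    rw [hlam]
    simp [hc0]
  have hw : w ≤ finrank K (Submodule.span K (Set.range T)) := by
    rw [htop, finrank_top, Module.finrank_fin_fun]
  -- extract `w` independent rows: need S possibly infinite, use range of T as index via a finite subfamily
  obtain ⟨b, hb, hspan, hli⟩ := exists_linearIndependent K (Set.range T)
  have hbfin : b.Finite := by
    have : Module.Finite K (Fin w → K) := inferInstance
    exact hli.setFinite
  have : Fintype b := hbfin.fintype
  have hcard : finrank K (Submodule.span K b) = Fintype.card b := by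
    have h1 : LinearIndepOn K id b := hli
    rw [finrank_span_set_eq_card h1, Set.toFinset_card]
  rw [← hspan, hcard] at hw
  obtain ⟨emb⟩ := Function.Embedding.nonempty_of_card_le (α := Fin w) (β := b)
    (by rw [Fintype.card_fin]; exact hw)
  have hpre : ∀ x : b, ∃ s : S, T s = x := fun x => hb x.2
  choose pre hpre using hpre
  refine ⟨fun a => pre (emb a), ?_⟩
  have hrows : (Matrix.of fun a b' => f b' (pre (emb a))).row = (Subtype.val : b → (Fin w → K)) ∘ emb := by
    funext a
    show T (pre (emb a)) = _
    rw [hpre]
    rfl
  have hli' : LinearIndependent K (Matrix.of fun a b' => f b' (pre (emb a))).row := by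
    rw [hrows]
    exact hli.comp emb emb.injective
  have hunit := Matrix.linearIndependent_rows_iff_isUnit.mp hli'
  exact ((Matrix.isUnit_iff_isUnit_det _).mp hunit).ne_zero

/-- a nonvanishing determinant of values forces linear independence -/
theorem linearIndependent_of_det_ne_zero {S : Type*} {w : ℕ} (f : Fin w → (S → K))
    (s : Fin w → S) (h : (Matrix.of fun a b => f b (s a)).det ≠ 0) :
    LinearIndependent K f := by
  classical
  rw [Fintype.linearIndependent_iff]
  intro c hc
  have hmul : (Matrix.of fun a b => f b (s a)).mulVec c = 0 := by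
    funext a
    have := congrFun hc (s a)
    simp only [Finset.sum_apply, Pi.smul_apply, smul_eq_mul, Pi.zero_apply] at this
    simp only [Matrix.mulVec, dotProduct, Matrix.of_apply, Pi.zero_apply]
    rw [← this]
    exact Finset.sum_congr rfl (fun i _ => mul_comm _ _)
  have := Matrix.eq_zero_of_mulVec_eq_zero h hmul
  intro i
  exact congrFun this i

end LA

end Groth.Agent.Helper9.BasicElt
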