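import Mathlib
import Groth.Agent.Lib.Helper9.BasicElt.LA

/-!
# Basic elements: rank of a family at a prime, measured through linear forms
-/

namespace Groth.Agent.Helper9.BasicElt

open Module

variable {R : Type*} [CommRing R] {M : Type*} [AddCommGroup M] [Module R M]

/-- evaluation of all linear forms, reduced to the residue field at `𝔭` -/
noncomputable def ev (𝔭 : PrimeSpectrum R) :
    M →ₗ[R] (Module.Dual R M → 𝔭.asIdeal.ResidueField) where
  toFun x φ := algebraMap R 𝔭.asIdeal.ResidueField (φ x)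
  map_add' x y := by funext φ; simp
  map_smul' a x := by funext φ; simp [Algebra.smul_def]

theorem ev_apply (𝔭 : PrimeSpectrum R) (x : M) (φ : Module.Dual R M) :
    ev 𝔭 x φ = algebraMap R 𝔭.asIdeal.ResidueField (φ x) := rfl

/-- the rank at `𝔭` of a family of elements, seen through linear forms -/
noncomputable def brank (𝔭 : PrimeSpectrum R) {ι : Type*} (m : ι → M) : ℕ :=
  finrank 𝔭.asIdeal.ResidueField
    (Submodule.span 𝔭.asIdeal.ResidueField (Set.range fun i => ev 𝔭 (m i)))

/-- the ideal of `w × w` minors of the family `m` with respect to all choices of linear forms -/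
def minorIdeal {r : ℕ} (m : Fin r → M) (w : ℕ) : Ideal R :=
  Ideal.span {x | ∃ (φ : Fin w → Module.Dual R M) (j : Fin w → Fin r),
    x = (Matrix.of fun a b => φ a (m (j b))).det}

theorem algebraMap_det_eq (𝔭 : PrimeSpectrum R) {r w : ℕ} (m : Fin r → M)
    (φ : Fin w → Module.Dual R M) (j : Fin w → Fin r) :
    algebraMap R 𝔭.asIdeal.ResidueField (Matrix.of fun a b => φ a (m (j b))).det =
      (Matrix.of fun a b => (fun b' => ev 𝔭 (m (j b'))) b (φ a)).det := by
  rw [RingHom.map_det]
  rfl

theorem brank_lt_iff (𝔭 : PrimeSpectrum R) {r : ℕ} (m : Fin r → M) (w : ℕ) :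
    brank 𝔭 m < w ↔ minorIdeal m w ≤ 𝔭.asIdeal := by
  constructor
  · intro hlt
    rw [minorIdeal, Ideal.span_le]
    rintro _ ⟨φ, j, rfl⟩
    by_contra hnot
    have hne : algebraMap R 𝔭.asIdeal.ResidueField (Matrix.of fun a b => φ a (m (j b))).det ≠ 0 := by
      rwa [Ne, Ideal.algebraMap_residueField_eq_zero]
    rw [algebraMap_det_eq] at hne
    have hli := linearIndependent_of_det_ne_zero (fun b' => ev 𝔭 (m (j b'))) φ hne
    have h1 : finrank 𝔭.asIdeal.ResidueField
        (Submodule.span 𝔭.asIdeal.ResidueField (Set.range fun b' => ev 𝔭 (m (j b')))) = w := by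
      rw [finrank_span_eq_card hli, Fintype.card_fin]
    have h2 : Submodule.span 𝔭.asIdeal.ResidueField (Set.range fun b' => ev 𝔭 (m (j b'))) ≤
        Submodule.span 𝔭.asIdeal.ResidueField (Set.range fun i => ev 𝔭 (m i)) := by
      apply Submodule.span_mono
      rintro _ ⟨b, rfl⟩
      exact ⟨j b, rfl⟩
    have hfin : FiniteDimensional 𝔭.asIdeal.ResidueField
        (Submodule.span 𝔭.asIdeal.ResidueField (Set.range fun i => ev 𝔭 (m i))) :=
      FiniteDimensional.span_of_finite _ (Set.finite_range _)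
    have h3 := Submodule.finrank_mono h2
    rw [h1] at h3
    exact absurd hlt (not_lt.mpr h3)
  · intro hle
    by_contra hnot
    push Not at hnot
    obtain ⟨j, hj⟩ := exists_linearIndependent_comp (fun i => ev 𝔭 (m i)) w hnot
    obtain ⟨φ, hφ⟩ := exists_det_ne_zero_of_linearIndependent
      ((fun i => ev 𝔭 (m i)) ∘ j) hj
    have hmem : (Matrix.of fun a b => φ a (m (j b))).det ∈ minorIdeal m w :=
      Ideal.subset_span ⟨φ, j, rfl⟩
    have h0 : algebraMap R 𝔭.asIdeal.ResidueField (Matrix.of fun a b => φ a (m (j b))).det = 0 := by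
      rw [Ideal.algebraMap_residueField_eq_zero]
      exact hle hmem
    rw [algebraMap_det_eq] at h0
    exact hφ h0

/-- the sheared family `m i + a i • m last` -/
def shearM {r : ℕ} (m : Fin (r + 1) → M) (a : Fin r → R) : Fin r → M :=
  fun i => m (Fin.castSucc i) + a i • m (Fin.last r)

theorem ev_shearM (𝔭 : PrimeSpectrum R) {r : ℕ} (m : Fin (r + 1) → M) (a : Fin r → R) :
    (fun i => ev 𝔭 (shearM m a i)) =
      shear (fun i => ev 𝔭 (m i)) (fun i => algebraMap R 𝔭.asIdeal.ResidueField (a i)) := by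
  funext i
  simp only [shearM, shear, map_add, map_smul]
  congr 1
  funext φ
  simp [Algebra.smul_def]

theorem brank_le_shearM_add_one (𝔭 : PrimeSpectrum R) {r : ℕ} (m : Fin (r + 1) → M)
    (a : Fin r → R) : brank 𝔭 m ≤ brank 𝔭 (shearM m a) + 1 := by
  unfold brank
  rw [ev_shearM]
  exact finrank_span_le_shear_add_one _ _

theorem brank_shearM_congr (𝔭 : PrimeSpectrum R) {r : ℕ} (m : Fin (r + 1) → M)
    (a a' : Fin r → R) (h : ∀ i, a i - a' i ∈ 𝔭.asIdeal) :
    brank 𝔭 (shearM m a) = brank 𝔭 (shearM m a') := by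
  unfold brank
  rw [ev_shearM, ev_shearM]
  have : (fun i => algebraMap R 𝔭.asIdeal.ResidueField (a i)) =
      (fun i => algebraMap R 𝔭.asIdeal.ResidueField (a' i)) := by
    funext i
    rw [← sub_eq_zero, ← map_sub, Ideal.algebraMap_residueField_eq_zero]
    exact h i
  rw [this]

theorem brank_shearM_or (𝔭 : PrimeSpectrum R) {r : ℕ} (m : Fin (r + 1) → M)
    (a : Fin r → R) (w : ℕ) (hw : w ≤ brank 𝔭 m) :
    min r w ≤ brank 𝔭 (shearM m a) ∨
      ∃ i : Fin r, ∀ t : R, t ∉ 𝔭.asIdeal →
        min r w ≤ brank 𝔭 (shearM m (Function.update a i (a i + t))) := by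
  classical
  unfold brank at hw ⊢
  rcases exists_update_finrank_ge (fun i => ev 𝔭 (m i))
    (fun i => algebraMap R 𝔭.asIdeal.ResidueField (a i)) w hw with h | ⟨i, hi⟩
  · left
    rw [ev_shearM]
    exact h
  · right
    refine ⟨i, fun t ht => ?_⟩
    have hβ : algebraMap R 𝔭.asIdeal.ResidueField t ≠ 0 := by
      rwa [Ne, Ideal.algebraMap_residueField_eq_zero]
    have := hi _ hβ
    have hfun : (fun k => algebraMap R 𝔭.asIdeal.ResidueField (Function.update a i (a i + t) k)) =
        Function.update (fun k => algebraMap R 𝔭.asIdeal.ResidueField (a k)) i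
          (algebraMap R 𝔭.asIdeal.ResidueField (a i) + algebraMap R 𝔭.asIdeal.ResidueField t) := by
      funext k
      by_cases hk : k = i
      · subst hk
        simp
      · simp [Function.update_of_ne hk]
    rw [ev_shearM, hfun]
    exact this

theorem brank_mono_family (𝔭 : PrimeSpectrum R) {ι ι' : Type*} (m : ι → M) (m' : ι' → M)
    [Finite ι'] (h : ∀ i, ∃ i', m i = m' i') : brank 𝔭 m ≤ brank 𝔭 m' := by
  unfold brank
  have hfin : FiniteDimensional 𝔭.asIdeal.ResidueField
      (Submodule.span 𝔭.asIdeal.ResidueField (Set.range fun i => ev 𝔭 (m' i))) :=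
    FiniteDimensional.span_of_finite _ (Set.finite_range _)
  apply Submodule.finrank_mono
  apply Submodule.span_mono
  rintro _ ⟨i, rfl⟩
  obtain ⟨i', hi'⟩ := h i
  exact ⟨i', by simp [hi']⟩

/-- basicness of a single element in terms of linear forms -/
theorem one_le_brank_singleton_iff (𝔭 : PrimeSpectrum R) (s : M) :
    1 ≤ brank 𝔭 (fun _ : Fin 1 => s) ↔ ∃ φ : Module.Dual R M, φ s ∉ 𝔭.asIdeal := by
  unfold brank
  have hrange : (Set.range fun _ : Fin 1 => ev 𝔭 s) = {ev 𝔭 s} := by
    ext x; simp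
  rw [hrange]
  constructor
  · intro h
    by_contra hnot
    push Not at hnot
    have h0 : ev 𝔭 s = 0 := by
      funext φ
      rw [ev_apply, Pi.zero_apply, Ideal.algebraMap_residueField_eq_zero]
      exact hnot φ
    rw [h0] at h
    simp at h
  · rintro ⟨φ, hφ⟩
    have hne : ev 𝔭 s ≠ 0 := by
      intro h0
      have := congrFun h0 φ
      rw [ev_apply, Pi.zero_apply, Ideal.algebraMap_residueField_eq_zero] at this
      exact hφ this
    rw [finrank_span_singleton hne]

end Groth.Agent.Helper9.BasicElt
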