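import Mathlib
import Groth.Agent.Lib.Helper9.BasicElt.Defs

/-!
# The Eisenbud–Evans basic element theorem (with a generalized dimension function)
-/

namespace Groth.Agent.Helper9.BasicElt

open Module

variable {R : Type*} [CommRing R] {M : Type*} [AddCommGroup M] [Module R M]

/-- A generalized dimension function on a set of primes. -/
structure DimFun (X : Set (PrimeSpectrum R)) (d : PrimeSpectrum R → ℕ) : Prop where
  strict : ∀ 𝔭 ∈ X, ∀ 𝔮 ∈ X, 𝔭 < 𝔮 → d 𝔮 < d 𝔭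
  fin : ∀ I : Ideal R, ∃ E : Finset (PrimeSpectrum R),
    (∀ 𝔮 ∈ E, 𝔮 ∈ X ∧ I ≤ 𝔮.asIdeal) ∧
      ∀ 𝔭 ∈ X, I ≤ 𝔭.asIdeal → ∃ 𝔮 ∈ E, 𝔮 ≤ 𝔭

/-- finitely many primes can be handled simultaneously -/
theorem exists_shearM_finset (E : Finset (PrimeSpectrum R)) {r : ℕ} (m : Fin (r + 1) → M)
    (w : PrimeSpectrum R → ℕ) (h : ∀ 𝔮 ∈ E, w 𝔮 ≤ brank 𝔮 m) :
    ∃ a : Fin r → R, ∀ 𝔮 ∈ E, min r (w 𝔮) ≤ brank 𝔮 (shearM m a) := by
  classical
  induction hn : E.card generalizing E with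
  | zero =>
    rw [Finset.card_eq_zero] at hn
    subst hn
    exact ⟨0, fun 𝔮 h𝔮 => absurd h𝔮 (Finset.notMem_empty _)⟩
  | succ n ih =>
    have hne : E.Nonempty := by
      rw [← Finset.card_pos]; omega
    obtain ⟨𝔭, h𝔭E, hmin⟩ := E.exists_minimal hne
    obtain ⟨a', ha'⟩ := ih (E.erase 𝔭) (fun 𝔮 h𝔮 => h 𝔮 (Finset.mem_of_mem_erase h𝔮))
      (by rw [Finset.card_erase_of_mem h𝔭E, hn]; rfl)
    -- an element in all other primes but not in `𝔭`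
    have hx : ∀ 𝔮 ∈ E.erase 𝔭, ∃ x : R, x ∈ 𝔮.asIdeal ∧ x ∉ 𝔭.asIdeal := by
      intro 𝔮 h𝔮
      have h𝔮E := Finset.mem_of_mem_erase h𝔮
      have hne' : 𝔮 ≠ 𝔭 := Finset.ne_of_mem_erase h𝔮
      have hnle : ¬ 𝔮.asIdeal ≤ 𝔭.asIdeal := by
        intro hle
        have h1 : 𝔮 ≤ 𝔭 := hle
        have h2 : 𝔭 ≤ 𝔮 := hmin h𝔮E h1
        exact hne' (le_antisymm h1 h2)
      obtain ⟨x, hx𝔮, hx𝔭⟩ := Set.not_subset.mp hnle
      exact ⟨x, hx𝔮, hx𝔭⟩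
    choose! x hx𝔮 hx𝔭 using hx
    set t : R := ∏ 𝔮 ∈ E.erase 𝔭, x 𝔮 with ht
    have ht𝔭 : t ∉ 𝔭.asIdeal := by
      intro hmem
      obtain ⟨𝔮, h𝔮, hx⟩ := (Ideal.IsPrime.prod_mem_iff).mp hmem
      exact hx𝔭 𝔮 h𝔮 hx
    have ht𝔮 : ∀ 𝔮 ∈ E.erase 𝔭, t ∈ 𝔮.asIdeal := by
      intro 𝔮 h𝔮
      rw [ht, ← Finset.mul_prod_erase _ _ h𝔮]
      exact Ideal.mul_mem_right _ _ (hx𝔮 𝔮 h𝔮)
    rcases brank_shearM_or 𝔭 m a' (w 𝔭) (h 𝔭 h𝔭E) with h1 | ⟨i, hi⟩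
    · refine ⟨a', fun 𝔮 h𝔮 => ?_⟩
      by_cases h𝔮𝔭 : 𝔮 = 𝔭
      · subst h𝔮𝔭; exact h1
      · exact ha' 𝔮 (Finset.mem_erase.mpr ⟨h𝔮𝔭, h𝔮⟩)
    · refine ⟨Function.update a' i (a' i + t), fun 𝔮 h𝔮 => ?_⟩
      by_cases h𝔮𝔭 : 𝔮 = 𝔭
      · subst h𝔮𝔭; exact hi t ht𝔭
      · have hmem : 𝔮 ∈ E.erase 𝔭 := Finset.mem_erase.mpr ⟨h𝔮𝔭, h𝔮⟩
        rw [brank_shearM_congr 𝔮 m (Function.update a' i (a' i + t)) a' ?_]
        · exact ha' 𝔮 hmem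
        · intro k
          by_cases hk : k = i
          · subst hk
            simp only [Function.update_self, add_sub_cancel_left]
            exact ht𝔮 𝔮 hmem
          · simp [Function.update_of_ne hk]

/-- one step of the Eisenbud–Evans reduction -/
theorem exists_shearM_of_dimFun {X : Set (PrimeSpectrum R)} {d : PrimeSpectrum R → ℕ}
    (hX : DimFun X d) {r : ℕ} (m : Fin (r + 1) → M)
    (h : ∀ 𝔭 ∈ X, min (r + 1) (d 𝔭 + 1) ≤ brank 𝔭 m) :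
    ∃ a : Fin r → R, ∀ 𝔭 ∈ X, min r (d 𝔭 + 1) ≤ brank 𝔭 (shearM m a) := by
  classical
  choose Ew hEw1 hEw2 using fun w : ℕ => hX.fin (minorIdeal m w)
  set E : Finset (PrimeSpectrum R) := (Finset.range (r + 2)).biUnion Ew with hE
  have hEX : ∀ 𝔮 ∈ E, 𝔮 ∈ X := by
    intro 𝔮 h𝔮
    obtain ⟨w, -, hw⟩ := Finset.mem_biUnion.mp h𝔮
    exact (hEw1 w 𝔮 hw).1
  obtain ⟨a, ha⟩ := exists_shearM_finset E m (fun 𝔮 => min (r + 1) (d 𝔮 + 1))
    (fun 𝔮 h𝔮 => h 𝔮 (hEX 𝔮 h𝔮))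
  refine ⟨a, fun 𝔭 h𝔭 => ?_⟩
  set v := min r (d 𝔭 + 1) with hv
  by_cases hcase : v + 1 ≤ brank 𝔭 m
  · have := brank_le_shearM_add_one 𝔭 m a
    omega
  · push Not at hcase
    have hle := (brank_lt_iff 𝔭 m (v + 1)).mp hcase
    obtain ⟨𝔮, h𝔮Ew, h𝔮𝔭⟩ := hEw2 (v + 1) 𝔭 h𝔭 hle
    have h𝔮X : 𝔮 ∈ X := (hEw1 (v + 1) 𝔮 h𝔮Ew).1
    have h𝔮lt : brank 𝔮 m < v + 1 := (brank_lt_iff 𝔮 m (v + 1)).mpr (hEw1 (v + 1) 𝔮 h𝔮Ew).2
    have h1 := h 𝔮 h𝔮X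
    have h2 := h 𝔭 h𝔭
    have hvr : v ≤ r := min_le_left _ _
    have hd𝔭 : d 𝔭 + 1 ≤ r := by
      by_contra hcon
      push Not at hcon
      have : min (r + 1) (d 𝔭 + 1) = r + 1 := by omega
      have : v = r := by omega
      omega
    have hvd : v = d 𝔭 + 1 := by omega
    have hd𝔮 : d 𝔮 ≤ d 𝔭 := by omega
    have heq : 𝔮 = 𝔭 := by
      rcases eq_or_lt_of_le h𝔮𝔭 with heq | hlt
      · exact heq
      · have := hX.strict 𝔮 h𝔮X 𝔭 h𝔭 hlt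
        omega
    have h𝔭E : 𝔭 ∈ E := by
      rw [hE, Finset.mem_biUnion]
      exact ⟨v + 1, Finset.mem_range.mpr (by omega), heq ▸ h𝔮Ew⟩
    have := ha 𝔭 h𝔭E
    change min r (min (r + 1) (d 𝔭 + 1)) ≤ _ at this
    omega

/-- the basic element theorem: a family which is sufficiently basic can be collapsed to
a single basic element of the form `m 0 + (combination of the others)` -/
theorem exists_basic_element {X : Set (PrimeSpectrum R)} {d : PrimeSpectrum R → ℕ}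
    (hX : DimFun X d) {r : ℕ} (m : Fin (r + 1) → M)
    (h : ∀ 𝔭 ∈ X, min (r + 1) (d 𝔭 + 1) ≤ brank 𝔭 m) :
    ∃ s : M, s - m 0 ∈ Submodule.span R (Set.range fun i : Fin r => m i.succ) ∧
      ∀ 𝔭 ∈ X, 1 ≤ brank 𝔭 (fun _ : Fin 1 => s) := by
  induction r with
  | zero =>
    refine ⟨m 0, by simp, fun 𝔭 h𝔭 => ?_⟩
    have h1 := h 𝔭 h𝔭
    have h2 : min (0 + 1) (d 𝔭 + 1) = 1 := by omega
    rw [h2] at h1
    have h3 : m = fun _ : Fin 1 => m 0 := by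
      funext i
      rw [Fin.fin_one_eq_zero i]
    rw [← h3]
    exact h1
  | succ r ih =>
    obtain ⟨a, ha⟩ := exists_shearM_of_dimFun hX m h
    obtain ⟨s, hs, hbasic⟩ := ih (shearM m a) ha
    refine ⟨s, ?_, hbasic⟩
    have hlast : m (Fin.last (r + 1)) ∈
        Submodule.span R (Set.range fun i : Fin (r + 1) => m i.succ) :=
      Submodule.subset_span ⟨Fin.last r, by
        show m (Fin.last r).succ = _
        rw [Fin.succ_last]⟩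
    have h1 : Submodule.span R (Set.range fun i : Fin r => shearM m a i.succ) ≤
        Submodule.span R (Set.range fun i : Fin (r + 1) => m i.succ) := by
      rw [Submodule.span_le]
      rintro _ ⟨i, rfl⟩
      simp only [shearM, SetLike.mem_coe]
      refine Submodule.add_mem _ ?_ (Submodule.smul_mem _ _ hlast)
      refine Submodule.subset_span ⟨Fin.castSucc i, ?_⟩
      show m (Fin.castSucc i).succ = _
      rw [Fin.succ_castSucc]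
    have h2 : s - m 0 = (s - shearM m a 0) + a 0 • m (Fin.last (r + 1)) := by
      simp only [shearM, Fin.castSucc_zero]
      abel
    rw [h2]
    exact Submodule.add_mem _ (h1 hs) (Submodule.smul_mem _ _ hlast)

end Groth.Agent.Helper9.BasicElt
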