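import Mathlib
import Groth.Agent.Lib.Helper9.BasicElt.Global

/-!
# Unimodular elements in projective modules of large rank (Serre, Bass)
-/

namespace Groth.Agent.Helper9.BasicElt

open Module TensorProduct

variable {R : Type*} [CommRing R] {M : Type*} [AddCommGroup M] [Module R M]

/-- an element which is basic at every maximal ideal is unimodular -/
theorem exists_dual_eq_one_of_forall_isMaximal (s : M)
    (h : ∀ 𝔪 : Ideal R, 𝔪.IsMaximal → ∃ φ : Module.Dual R M, φ s ∉ 𝔪) :
    ∃ φ : Module.Dual R M, φ s = 1 := by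
  let O : Ideal R := LinearMap.range (LinearMap.applyₗ s : Module.Dual R M →ₗ[R] R)
  have hO : O = ⊤ := by
    by_contra hne
    obtain ⟨𝔪, h𝔪, hle⟩ := Ideal.exists_le_maximal O hne
    obtain ⟨φ, hφ⟩ := h 𝔪 h𝔪
    exact hφ (hle ⟨φ, rfl⟩)
  have h1 : (1 : R) ∈ O := by rw [hO]; trivial
  obtain ⟨φ, hφ⟩ := h1
  exact ⟨φ, hφ⟩

/-- the generalized dimension function `𝔭 ↦ dim R - ht 𝔭` on a basic open set -/
theorem dimFun_basicOpen [IsNoetherianRing R] (d₀ : ℕ) (hdim : ringKrullDim R = d₀) (a : R) :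
    DimFun {𝔭 : PrimeSpectrum R | a ∉ 𝔭.asIdeal}
      (fun 𝔭 => d₀ - 𝔭.asIdeal.height.toNat) := by
  have hle : ∀ 𝔮 : PrimeSpectrum R, 𝔮.asIdeal.height ≤ (d₀ : ℕ∞) := by
    intro 𝔮
    have := Ideal.height_le_ringKrullDim_of_isPrime (I := 𝔮.asIdeal)
    rw [hdim] at this
    exact_mod_cast this
  constructor
  · intro 𝔭 _ 𝔮 _ hlt
    have h1 : 𝔭.asIdeal.height < 𝔮.asIdeal.height :=
      Ideal.height_strict_mono_of_isPrime (by exact hlt)
    have h2 := hle 𝔮
    have h3 := hle 𝔭
    obtain ⟨k, hk⟩ := ENat.ne_top_iff_exists.mp (ne_top_of_le_ne_top (ENat.natCast_ne_top d₀) h2)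
    obtain ⟨l, hl⟩ := ENat.ne_top_iff_exists.mp (ne_top_of_le_ne_top (ENat.natCast_ne_top d₀) h3)
    rw [← hk] at h1 h2
    rw [← hl] at h1 h3
    simp only [← hk, ← hl, ENat.toNat_natCast]
    have h1' : l < k := by exact_mod_cast h1
    have h2' : k ≤ d₀ := by exact_mod_cast h2
    omega
  · intro I
    classical
    have hfin : {𝔮 : PrimeSpectrum R | 𝔮.asIdeal ∈ I.minimalPrimes}.Finite := by
      have := (Ideal.finite_minimalPrimes_of_isNoetherianRing R I).preimage
        (f := fun 𝔮 : PrimeSpectrum R => 𝔮.asIdeal)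
        (fun x _ y _ hxy => PrimeSpectrum.ext hxy)
      exact this
    refine ⟨hfin.toFinset.filter (fun 𝔮 => a ∉ 𝔮.asIdeal), ?_, ?_⟩
    · intro 𝔮 h𝔮
      rw [Finset.mem_filter, Set.Finite.mem_toFinset] at h𝔮
      exact ⟨h𝔮.2, h𝔮.1.1.2⟩
    · intro 𝔭 h𝔭 hI𝔭
      obtain ⟨q, hq, hq𝔭⟩ := Ideal.exists_minimalPrimes_le hI𝔭
      refine ⟨⟨q, hq.1.1⟩, ?_, hq𝔭⟩
      rw [Finset.mem_filter, Set.Finite.mem_toFinset]
      exact ⟨hq, fun ha => h𝔭 (hq𝔭 ha)⟩

/-- the comparison map `κ(𝔭) ⊗ M → (M* → κ(𝔭))` -/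
noncomputable def evBase (𝔭 : PrimeSpectrum R) :
    𝔭.asIdeal.ResidueField ⊗[R] M →ₗ[𝔭.asIdeal.ResidueField]
      (Module.Dual R M → 𝔭.asIdeal.ResidueField) :=
  LinearMap.liftBaseChange 𝔭.asIdeal.ResidueField (ev 𝔭)

theorem evBase_tmul (𝔭 : PrimeSpectrum R) (c : 𝔭.asIdeal.ResidueField) (x : M) :
    evBase 𝔭 (c ⊗ₜ[R] x) = c • ev 𝔭 x := rfl

theorem evBase_injective [Module.Finite R M] [Module.Projective R M] (𝔭 : PrimeSpectrum R) :
    Function.Injective (evBase (M := M) 𝔭) := by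
  obtain ⟨n, f, g, -, -, hfg⟩ := Module.Finite.exists_comp_eq_id_of_projective R M
  rw [← LinearMap.ker_eq_bot, LinearMap.ker_eq_bot']
  intro z hz
  set κ := 𝔭.asIdeal.ResidueField
  have hkey : ∀ (z : κ ⊗[R] M) (j : Fin n),
      TensorProduct.piScalarRight R κ κ (Fin n) (g.baseChange κ z) j =
        evBase 𝔭 z (LinearMap.proj j ∘ₗ g) := by
    intro z j
    induction z using TensorProduct.induction_on with
    | zero => simp
    | tmul c x =>
      rw [LinearMap.baseChange_tmul, TensorProduct.piScalarRight_apply,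
        TensorProduct.piScalarRightHom_tmul, evBase_tmul]
      simp only [Pi.smul_apply, ev_apply, LinearMap.coe_comp, LinearMap.coe_proj,
        Function.comp_apply, Function.eval, smul_eq_mul, Algebra.smul_def]
      ring
    | add x y hx hy =>
      rw [map_add, map_add, Pi.add_apply, hx, hy, map_add, Pi.add_apply]
  have h0 : g.baseChange κ z = 0 := by
    apply (TensorProduct.piScalarRight R κ κ (Fin n)).injective
    rw [map_zero]
    funext j
    rw [hkey, hz]
    rfl
  have hid : (f.baseChange κ) ((g.baseChange κ) z) = z := by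
    rw [← LinearMap.comp_apply, ← LinearMap.baseChange_comp, hfg, LinearMap.baseChange_id]
    rfl
  rw [← hid, h0, map_zero]

theorem ev_mem_span_of_mem_span (𝔭 : PrimeSpectrum R) {ι : Type*} (u : ι → M) (x : M)
    (hx : x ∈ Submodule.span R (Set.range u)) :
    ev 𝔭 x ∈ Submodule.span 𝔭.asIdeal.ResidueField (Set.range fun i => ev 𝔭 (u i)) := by
  induction hx using Submodule.span_induction with
  | mem x hx =>
    obtain ⟨i, rfl⟩ := hx
    exact Submodule.subset_span ⟨i, rfl⟩
  | zero => rw [map_zero]; exact Submodule.zero_mem _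
  | add x y _ _ hx hy => rw [map_add]; exact Submodule.add_mem _ hx hy
  | smul r x _ hx =>
    rw [map_smul, ← algebraMap_smul 𝔭.asIdeal.ResidueField r (ev 𝔭 x)]
    exact Submodule.smul_mem _ _ hx

/-- for a finitely generated projective module the rank of a generating family, measured through
linear forms, is at least the rank of the module -/
theorem rankAtStalk_le_brank [Module.Finite R M] [Module.Projective R M] {ι : Type*} [Finite ι]
    (u : ι → M) (hu : Submodule.span R (Set.range u) = ⊤) (𝔭 : PrimeSpectrum R) :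
    Module.rankAtStalk M 𝔭 ≤ brank 𝔭 u := by
  rw [Module.rankAtStalk_eq]
  unfold brank
  set κ := 𝔭.asIdeal.ResidueField
  set S := Submodule.span κ (Set.range fun i => ev 𝔭 (u i)) with hS
  have hfin : FiniteDimensional κ S := FiniteDimensional.span_of_finite _ (Set.finite_range _)
  have hrange : LinearMap.range (evBase (M := M) 𝔭) ≤ S := by
    rintro _ ⟨z, rfl⟩
    induction z using TensorProduct.induction_on with
    | zero => rw [map_zero]; exact Submodule.zero_mem _
    | tmul c x =>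
      rw [evBase_tmul]
      exact Submodule.smul_mem _ _ (ev_mem_span_of_mem_span 𝔭 u x (by rw [hu]; trivial))
    | add x y hx hy => rw [map_add]; exact Submodule.add_mem _ hx hy
  calc finrank κ (𝔭.asIdeal.Fiber M) = finrank κ (LinearMap.range (evBase (M := M) 𝔭)) :=
        (LinearMap.finrank_range_of_inj (evBase_injective 𝔭)).symm
    _ ≤ finrank κ S := Submodule.finrank_mono hrange

/-- multiplying a family by an element outside `𝔭` does not lower its rank at `𝔭` -/
theorem brank_le_brank_smul (𝔭 : PrimeSpectrum R) {ι : Type*} [Finite ι] (u : ι → M) (a : R)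
    (ha : a ∉ 𝔭.asIdeal) : brank 𝔭 u ≤ brank 𝔭 (fun i => a • u i) := by
  unfold brank
  set κ := 𝔭.asIdeal.ResidueField
  have hfin : FiniteDimensional κ (Submodule.span κ (Set.range fun i => ev 𝔭 (a • u i))) :=
    FiniteDimensional.span_of_finite _ (Set.finite_range _)
  apply Submodule.finrank_mono
  rw [Submodule.span_le]
  rintro _ ⟨i, rfl⟩
  have hne : algebraMap R κ a ≠ 0 := by
    rwa [Ne, Ideal.algebraMap_residueField_eq_zero]
  have h1 : ev 𝔭 (u i) = (algebraMap R κ a)⁻¹ • ev 𝔭 (a • u i) := by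
    rw [map_smul, ← algebraMap_smul κ a (ev 𝔭 (u i)), smul_smul, inv_mul_cancel₀ hne, one_smul]
  show ev 𝔭 (u i) ∈ _
  rw [h1]
  exact Submodule.smul_mem _ _ (Submodule.subset_span ⟨i, rfl⟩)

/-- **Bass' Theorem E** (via Eisenbud–Evans): if `(a, p)` is unimodular in `R × M` and the rank of
the projective module `M` exceeds `dim R` everywhere, then `p + a • q` is unimodular in `M` for
some `q`. -/
theorem exists_unimodular_add_smul [IsNoetherianRing R] (d₀ : ℕ) (hdim : ringKrullDim R = d₀)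
    [Module.Finite R M] [Module.Projective R M]
    (hrk : ∀ 𝔭 : PrimeSpectrum R, d₀ < Module.rankAtStalk M 𝔭)
    (a : R) (p : M) (hap : ∃ (b : R) (φ : Module.Dual R M), b * a + φ p = 1) :
    ∃ (q : M) (ψ : Module.Dual R M), ψ (p + a • q) = 1 := by
  obtain ⟨N, u, hu⟩ := Module.Finite.exists_fin (R := R) (M := M)
  obtain ⟨b, φ, hbφ⟩ := hap
  set m : Fin (N + 1) → M := Fin.cons p (fun i => a • u i) with hm
  have hX := dimFun_basicOpen d₀ hdim a
  have hbr : ∀ 𝔭 ∈ {𝔭 : PrimeSpectrum R | a ∉ 𝔭.asIdeal},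
      min (N + 1) ((fun 𝔭 : PrimeSpectrum R => d₀ - 𝔭.asIdeal.height.toNat) 𝔭 + 1) ≤
        brank 𝔭 m := by
    intro 𝔭 h𝔭
    have h1 := rankAtStalk_le_brank u hu 𝔭
    have h2 := brank_le_brank_smul 𝔭 u a h𝔭
    have h3 : brank 𝔭 (fun i => a • u i) ≤ brank 𝔭 m :=
      brank_mono_family 𝔭 _ m (fun i => ⟨i.succ, by simp [hm]⟩)
    have h4 := hrk 𝔭
    simp only
    omega
  obtain ⟨s, hs, hbasic⟩ := exists_basic_element hX m hbr
  have hs' : s - p ∈ LinearMap.range (a • (LinearMap.id : M →ₗ[R] M)) := by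
    have hle : Submodule.span R (Set.range fun i : Fin N => m i.succ) ≤
        LinearMap.range (a • (LinearMap.id : M →ₗ[R] M)) := by
      rw [Submodule.span_le]
      rintro _ ⟨i, rfl⟩
      exact ⟨u i, by simp [hm]⟩
    have := hle hs
    simpa [hm] using this
  obtain ⟨q, hq⟩ := hs'
  have hsq : s = p + a • q := by
    have : a • q = s - p := by simpa using hq
    rw [this]; abel
  refine ⟨q, ?_⟩
  rw [← hsq]
  apply exists_dual_eq_one_of_forall_isMaximal
  intro 𝔪 h𝔪
  by_cases ha : a ∈ 𝔪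
  · refine ⟨φ, fun hmem => ?_⟩
    have h1 : φ s = 1 - b * a + a * φ q := by
      rw [hsq, map_add, map_smul, smul_eq_mul, ← hbφ]; ring
    have h2 : (1 : R) = φ s + (b - φ q) * a := by rw [h1]; ring
    have : (1 : R) ∈ 𝔪 := by
      rw [h2]
      exact 𝔪.add_mem hmem (𝔪.mul_mem_left _ ha)
    exact h𝔪.ne_top ((Ideal.eq_top_iff_one _).mpr this)
  · have := hbasic ⟨𝔪, h𝔪.isPrime⟩ ha
    exact (one_le_brank_singleton_iff _ s).mp this

/-- **Serre's splitting theorem**: a projective module whose rank exceeds `dim R` everywhere has a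
unimodular element. -/
theorem exists_unimodular [IsNoetherianRing R] (d₀ : ℕ) (hdim : ringKrullDim R = d₀)
    [Module.Finite R M] [Module.Projective R M]
    (hrk : ∀ 𝔭 : PrimeSpectrum R, d₀ < Module.rankAtStalk M 𝔭) :
    ∃ (s : M) (ψ : Module.Dual R M), ψ s = 1 := by
  obtain ⟨q, ψ, hψ⟩ := exists_unimodular_add_smul d₀ hdim hrk 1 (0 : M) ⟨1, 0, by simp⟩
  exact ⟨_, ψ, hψ⟩

end Groth.Agent.Helper9.BasicElt
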