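import Mathlib
import Groth.Agent.Lib.Helper9.BasicElt.Unimod

/-!
# Bass' cancellation theorem and Serre's splitting theorem
-/

namespace Groth.Agent.Helper9.BasicElt

open Module

variable {R : Type*} [CommRing R] {P : Type*} [AddCommGroup P] [Module R P]
  {P' : Type*} [AddCommGroup P'] [Module R P']

/-- the transvection `(x, r) ↦ (x + r • q, r)` -/
def shear1 (q : P) : (P × R) ≃ₗ[R] (P × R) where
  toFun x := (x.1 + x.2 • q, x.2)
  invFun x := (x.1 - x.2 • q, x.2)
  map_add' x y := by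
    ext
    · simp only [Prod.fst_add, Prod.snd_add, add_smul]; abel
    · simp
  map_smul' c x := by
    ext
    · simp [mul_smul, smul_add]
    · simp
  left_inv x := by ext <;> simp
  right_inv x := by ext <;> simp

/-- the transvection `(x, r) ↦ (x, r + ψ x)` -/
def shear2 (ψ : Module.Dual R P) : (P × R) ≃ₗ[R] (P × R) where
  toFun x := (x.1, x.2 + ψ x.1)
  invFun x := (x.1, x.2 - ψ x.1)
  map_add' x y := by
    ext
    · simp
    · simp only [Prod.fst_add, Prod.snd_add, map_add]; ring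
  map_smul' c x := by
    ext
    · simp
    · simp [mul_add]
  left_inv x := by ext <;> simp
  right_inv x := by ext <;> simp

@[simp] theorem shear1_apply (q : P) (x : P × R) : shear1 q x = (x.1 + x.2 • q, x.2) := rfl
@[simp] theorem shear2_apply (ψ : Module.Dual R P) (x : P × R) :
    shear2 ψ x = (x.1, x.2 + ψ x.1) := rfl

theorem fix_aux (σ : (P × R) ≃ₗ[R] (P' × R)) (hσ : σ.symm (0, 1) = (0, 1)) (x : P) :
    (σ.symm ((σ (x, 0)).1, 0)).1 = x := by
  have h1 : ((σ (x, 0)).1, (0 : R)) = σ (x, 0) - (σ (x, 0)).2 • ((0 : P'), (1 : R)) := by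
    ext <;> simp
  rw [h1, map_sub, map_smul, hσ, LinearEquiv.symm_apply_apply]
  simp

/-- an isomorphism `P × R ≃ P' × R` fixing `(0, 1)` induces an isomorphism `P ≃ P'` -/
theorem nonempty_linearEquiv_of_fix (τ : (P × R) ≃ₗ[R] (P' × R))
    (hτ : τ (0, 1) = (0, 1)) : Nonempty (P ≃ₗ[R] P') := by
  have hτ' : τ.symm (0, 1) = (0, 1) := by
    rw [LinearEquiv.symm_apply_eq, hτ]
  refine ⟨LinearEquiv.ofLinearMap
    (LinearMap.fst R P' R ∘ₗ τ.toLinearMap ∘ₗ LinearMap.inl R P R)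
    (LinearMap.fst R P R ∘ₗ τ.symm.toLinearMap ∘ₗ LinearMap.inl R P' R) ?_ ?_⟩
  · apply LinearMap.ext
    intro y
    simp only [LinearMap.coe_comp, LinearEquiv.coe_coe, Function.comp_apply, LinearMap.inl_apply,
      LinearMap.fst_apply, LinearMap.id_coe, id_eq]
    have := fix_aux τ.symm (by simpa using hτ) y
    simpa using this
  · apply LinearMap.ext
    intro x
    simp only [LinearMap.coe_comp, LinearEquiv.coe_coe, Function.comp_apply, LinearMap.inl_apply,
      LinearMap.fst_apply, LinearMap.id_coe, id_eq]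
    exact fix_aux τ hτ' x

/-- **Bass cancellation**, one free summand -/
theorem nonempty_linearEquiv_of_prod_self [IsNoetherianRing R] (d₀ : ℕ)
    (hdim : ringKrullDim R = d₀) [Module.Finite R P] [Module.Projective R P]
    (hrk : ∀ 𝔭 : PrimeSpectrum R, d₀ < Module.rankAtStalk P 𝔭)
    (e : (P × R) ≃ₗ[R] (P' × R)) : Nonempty (P ≃ₗ[R] P') := by
  set pa := e.symm (0, 1) with hpa
  set p := pa.1 with hp
  set a := pa.2 with ha
  have hepa : e (p, a) = (0, 1) := by
    rw [hp, ha, Prod.mk.eta, hpa, LinearEquiv.apply_symm_apply]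
  let ψ₀ : P × R →ₗ[R] R := LinearMap.snd R P' R ∘ₗ e.toLinearMap
  have hψ₀ : ψ₀ (p, a) = 1 := by
    simp [ψ₀, hepa]
  have hsplit : ψ₀ (p, a) = ψ₀ (0, 1) * a + (ψ₀ ∘ₗ LinearMap.inl R P R) p := by
    have : (p, a) = a • ((0 : P), (1 : R)) + (p, (0 : R)) := by ext <;> simp
    conv_lhs => rw [this]
    rw [map_add, map_smul, smul_eq_mul, mul_comm]
    rfl
  obtain ⟨q, ψ, hψ⟩ := exists_unimodular_add_smul d₀ hdim hrk a p
    ⟨ψ₀ (0, 1), ψ₀ ∘ₗ LinearMap.inl R P R, by rw [← hsplit, hψ₀]⟩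
  set p' := p + a • q with hp'
  let σ : (P × R) ≃ₗ[R] (P × R) := (shear1 q ≪≫ₗ shear2 ((1 - a) • ψ)) ≪≫ₗ shear1 (-p')
  have hσ : σ (p, a) = (0, 1) := by
    simp only [σ, LinearEquiv.trans_apply, shear1_apply, shear2_apply, LinearMap.smul_apply,
      smul_eq_mul, ← hp', hψ]
    ext <;> simp
  apply nonempty_linearEquiv_of_fix (σ.symm ≪≫ₗ e)
  rw [LinearEquiv.trans_apply, ← hσ, LinearEquiv.symm_apply_apply, hepa]

/-- regrouping `P × R^(m+1)` as `(P × R^m) × R` -/
def splitLast (R : Type*) [CommRing R] (P : Type*) [AddCommGroup P] [Module R P] (m : ℕ) :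
    (P × (Fin (m + 1) → R)) ≃ₗ[R] ((P × (Fin m → R)) × R) :=
  (LinearEquiv.prodCongr (LinearEquiv.refl R P)
    ((Fin.consLinearEquiv R (fun _ : Fin (m + 1) => R)).symm ≪≫ₗ
      LinearEquiv.prodComm R R (Fin m → R))) ≪≫ₗ
    (LinearEquiv.prodAssoc R P (Fin m → R) R).symm

/-- **Bass cancellation** for finitely generated projective modules whose rank exceeds `dim R` -/
theorem nonempty_linearEquiv_of_prod_fin [IsNoetherianRing R] (d₀ : ℕ)
    (hdim : ringKrullDim R = d₀) [Module.Finite R P] [Module.Projective R P]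
    (hrk : ∀ 𝔭 : PrimeSpectrum R, d₀ < Module.rankAtStalk P 𝔭) (m : ℕ)
    (e : (P × (Fin m → R)) ≃ₗ[R] (P' × (Fin m → R))) : Nonempty (P ≃ₗ[R] P') := by
  induction m with
  | zero =>
    exact ⟨(LinearEquiv.prodUnique (R := R) (M := P) (M₂ := Fin 0 → R)).symm ≪≫ₗ e ≪≫ₗ
      LinearEquiv.prodUnique⟩
  | succ m ih =>
    have e' : ((P × (Fin m → R)) × R) ≃ₗ[R] ((P' × (Fin m → R)) × R) :=
      (splitLast R P m).symm ≪≫ₗ e ≪≫ₗ splitLast R P' m
    have hrk' : ∀ 𝔭 : PrimeSpectrum R, d₀ < Module.rankAtStalk (P × (Fin m → R)) 𝔭 := by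
      intro 𝔭
      have := congrFun (Module.rankAtStalk_prod (R := R) P (Fin m → R)) 𝔭
      rw [this, Pi.add_apply]
      exact lt_of_lt_of_le (hrk 𝔭) (Nat.le_add_right _ _)
    obtain ⟨e''⟩ := nonempty_linearEquiv_of_prod_self d₀ hdim hrk' e'
    exact ih e''

/-- **Bass cancellation**, cancelling an arbitrary finite free module -/
theorem nonempty_linearEquiv_of_prod_free [IsNoetherianRing R] (d₀ : ℕ)
    (hdim : ringKrullDim R = d₀) [Module.Finite R P] [Module.Projective R P]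
    (hrk : ∀ 𝔭 : PrimeSpectrum R, d₀ < Module.rankAtStalk P 𝔭)
    (F : Type*) [AddCommGroup F] [Module R F] [Module.Free R F] [Module.Finite R F]
    (e : (P × F) ≃ₗ[R] (P' × F)) : Nonempty (P ≃ₗ[R] P') := by
  have : Nontrivial R := by
    by_contra hnt
    rw [not_nontrivial_iff_subsingleton] at hnt
    rw [ringKrullDim_eq_bot_of_subsingleton] at hdim
    exact absurd hdim (by simp)
  let b := Module.finBasis R F
  let eF : F ≃ₗ[R] (Fin (Module.finrank R F) → R) := b.equivFun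
  exact nonempty_linearEquiv_of_prod_fin d₀ hdim hrk (Module.finrank R F)
    ((LinearEquiv.prodCongr (LinearEquiv.refl R P) eF).symm ≪≫ₗ e ≪≫ₗ
      LinearEquiv.prodCongr (LinearEquiv.refl R P') eF)

end Groth.Agent.Helper9.BasicElt
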