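import Mathlib
import Groth.Agent.Lib.Helper9.BasicElt.Global
import Groth.Agent.Lib.Helper9.BasicElt.Unimod

/-!
# Basic elements on the set of primes of bounded height (helper9)
-/

universe u
namespace Groth.Agent.Helper9.BasicElt
open Module

variable {A : Type u} [CommRing A] [IsNoetherianRing A]

/-- primes of height at most `k` -/
def htX (A : Type u) [CommRing A] (k : ℕ) : Set (PrimeSpectrum A) :=
  {𝔭 | 𝔭.asIdeal.height ≤ k}

/-- the dimension function on `htX` -/
noncomputable def htD (k : ℕ) (𝔭 : PrimeSpectrum A) : ℕ := k - 𝔭.asIdeal.height.toNat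

theorem dimFun_htX (k : ℕ) : DimFun (htX A k) (htD k) := by
  classical
  constructor
  · intro 𝔭 h𝔭 𝔮 h𝔮 hlt
    have h1 : 𝔭.asIdeal.height < 𝔮.asIdeal.height :=
      Ideal.height_strict_mono_of_isPrime_of_isPrime
        (J := 𝔮.asIdeal) (I := 𝔭.asIdeal) hlt
    have h𝔭' : 𝔭.asIdeal.height ≤ k := h𝔭
    have h𝔮' : 𝔮.asIdeal.height ≤ k := h𝔮
    unfold htD
    have e1 : 𝔭.asIdeal.height = (𝔭.asIdeal.height.toNat : ℕ∞) :=
      (ENat.natCast_toNat (ne_top_of_le_ne_top (ENat.natCast_ne_top k) h𝔭')).symm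
    have e2 : 𝔮.asIdeal.height = (𝔮.asIdeal.height.toNat : ℕ∞) :=
      (ENat.natCast_toNat (ne_top_of_le_ne_top (ENat.natCast_ne_top k) h𝔮')).symm
    rw [e1, e2] at h1
    rw [e2] at h𝔮'
    have h1' : 𝔭.asIdeal.height.toNat < 𝔮.asIdeal.height.toNat := by exact_mod_cast h1
    have h2' : 𝔮.asIdeal.height.toNat ≤ k := by exact_mod_cast h𝔮'
    omega
  · intro I
    have hfin : (I.minimalPrimes).Finite := Ideal.finite_minimalPrimes_of_isNoetherianRing A I
    have hfin' : {𝔮 : PrimeSpectrum A | 𝔮.asIdeal ∈ I.minimalPrimes ∧ 𝔮 ∈ htX A k}.Finite := by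
      refine Set.Finite.subset (hfin.preimage (f := PrimeSpectrum.asIdeal) ?_) ?_
      · intro x _ y _ hxy; exact PrimeSpectrum.ext hxy
      · intro 𝔮 h𝔮; exact h𝔮.1
    refine ⟨hfin'.toFinset, ?_, ?_⟩
    · intro 𝔮 h𝔮
      rw [Set.Finite.mem_toFinset] at h𝔮
      exact ⟨h𝔮.2, h𝔮.1.1.2⟩
    · intro 𝔭 h𝔭 hI
      obtain ⟨q, hq, hqp⟩ := Ideal.exists_minimalPrimes_le hI
      have : q.IsPrime := hq.1.1
      refine ⟨⟨q, this⟩, ?_, hqp⟩
      rw [Set.Finite.mem_toFinset]
      refine ⟨hq, ?_⟩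
      show q.height ≤ k
      exact (Ideal.height_mono hqp).trans h𝔭

variable {M : Type u} [AddCommGroup M] [Module A M] [Module.Finite A M]

/-- local freeness of rank `r` at a prime -/
def LocFreeAt (𝔭 : PrimeSpectrum A) (M : Type u) [AddCommGroup M] [Module A M] (r : ℕ) : Prop :=
  Nonempty (LocalizedModule 𝔭.asIdeal.primeCompl M ≃ₗ[Localization.AtPrime 𝔭.asIdeal]
    (Fin r → Localization.AtPrime 𝔭.asIdeal))

/-- a generating family of a module which is free of rank `r` at `𝔭` has rank at least `r` there,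
measured through global linear forms -/
theorem le_brank_of_locFreeAt (𝔭 : PrimeSpectrum A) (r : ℕ) (h : LocFreeAt 𝔭 M r)
    {ι : Type*} [Finite ι] (m : ι → M) (hm : Submodule.span A (Set.range m) = ⊤) :
    r ≤ brank 𝔭 m := by
  classical
  have : Module.FinitePresentation A M := Module.finitePresentation_of_finite A M
  obtain ⟨ψ⟩ := h
  set S := 𝔭.asIdeal.primeCompl with hS
  set L := Localization.AtPrime 𝔭.asIdeal with hL
  set κ := 𝔭.asIdeal.ResidueField with hκ
  -- global linear forms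
  have hφ : ∀ i : Fin r, ∃ (φ : M →ₗ[A] A) (s : S), ∀ x : M,
      algebraMap A L (φ x) = s • (ψ (LocalizedModule.mkLinearMap S M x) i) := by
    intro i
    let g : M →ₗ[A] L := ((LinearMap.proj i : (Fin r → L) →ₗ[L] L).restrictScalars A) ∘ₗ
      (ψ.toLinearMap.restrictScalars A) ∘ₗ (LocalizedModule.mkLinearMap S M)
    obtain ⟨φ, s, hφs⟩ := Module.FinitePresentation.exists_lift_of_isLocalizedModule S
      (Algebra.linearMap A L) g
    refine ⟨φ, s, fun x => ?_⟩
    have := LinearMap.congr_fun hφs x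
    simpa [g] using this
  choose φ s hφs using hφ
  -- preimages of the basis vectors
  have hy : ∀ l : Fin r, ∃ (x : M) (t : S),
      ψ (LocalizedModule.mkLinearMap S M x) = t • (Pi.single l (1 : L) : Fin r → L) := by
    intro l
    obtain ⟨⟨x, t⟩, hxt⟩ := IsLocalizedModule.surj S (LocalizedModule.mkLinearMap S M)
      (ψ.symm (Pi.single l 1))
    refine ⟨x, t, ?_⟩
    rw [← hxt]
    show ψ ((t : A) • ψ.symm (Pi.single l 1)) = (t : A) • (Pi.single l (1 : L) : Fin r → L)
    rw [← algebraMap_smul L (t : A) (ψ.symm (Pi.single l 1)), map_smul,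
      LinearEquiv.apply_symm_apply, algebraMap_smul]
  choose x t hxt using hy
  -- the projection
  let π : (Module.Dual A M → κ) →ₗ[κ] (Fin r → κ) :=
    LinearMap.pi fun i => LinearMap.proj (φ i)
  set W := Submodule.span κ (Set.range fun j => ev 𝔭 (m j)) with hW
  have hfin : FiniteDimensional κ W := FiniteDimensional.span_of_finite _ (Set.finite_range _)
  have hπ : ∀ l, π (ev 𝔭 (x l)) = (algebraMap A κ (s l * t l : A)) • (Pi.single l (1 : κ)) := by
    intro l
    funext i
    show algebraMap A κ (φ i (x l)) = _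
    rw [IsScalarTower.algebraMap_apply A L κ, hφs, hxt]
    simp only [Pi.smul_apply, Submonoid.smul_def, smul_eq_mul, Pi.single_apply]
    split_ifs with hil
    · subst hil
      rw [Algebra.smul_def, Algebra.smul_def, mul_one, map_mul, mul_one, map_mul,
        ← IsScalarTower.algebraMap_apply A L κ, ← IsScalarTower.algebraMap_apply A L κ]
    · rw [smul_zero, smul_zero, map_zero, mul_zero]
  have hne : ∀ l, algebraMap A κ (s l * t l : A) ≠ 0 := by
    intro l
    rw [Ne, Ideal.algebraMap_residueField_eq_zero]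
    exact (S.mul_mem (s l).2 (t l).2)
  have htop : W.map π = ⊤ := by
    rw [eq_top_iff]
    intro z _
    rw [← Finset.univ_sum_single z]
    refine Submodule.sum_mem _ fun l _ => ?_
    have h1 : (Pi.single l (z l) : Fin r → κ) =
        (z l * (algebraMap A κ (s l * t l : A))⁻¹) • π (ev 𝔭 (x l)) := by
      rw [hπ, smul_smul, mul_assoc, inv_mul_cancel₀ (hne l), mul_one]
      funext i
      simp [Pi.single_apply]
    rw [h1]
    refine Submodule.smul_mem _ _ (Submodule.mem_map_of_mem ?_)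
    exact ev_mem_span_of_mem_span 𝔭 m (x l) (by rw [hm]; trivial)
  calc r = finrank κ (Fin r → κ) := (Module.finrank_fin_fun κ).symm
    _ = finrank κ (⊤ : Submodule κ (Fin r → κ)) := (finrank_top κ _).symm
    _ = finrank κ (W.map π) := by rw [htop]
    _ ≤ finrank κ W := Submodule.finrank_map_le π W

/-- existence of an element which is part of a basis at every prime of height `≤ k` -/
theorem exists_basic_of_locFree (k r : ℕ) (hkr : k < r)
    (h : ∀ 𝔭 ∈ htX A k, LocFreeAt 𝔭 M r) :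
    ∃ s : M, ∀ 𝔭 ∈ htX A k, ∃ φ : Module.Dual A M, φ s ∉ 𝔭.asIdeal := by
  obtain ⟨n, g, hg⟩ := Module.Finite.exists_fin (R := A) (M := M)
  let m : Fin (n + 1) → M := Fin.cons 0 g
  have hm : ∀ 𝔭 ∈ htX A k, min (n + 1) (htD k 𝔭 + 1) ≤ brank 𝔭 m := by
    intro 𝔭 h𝔭
    have h1 : r ≤ brank 𝔭 g := le_brank_of_locFreeAt 𝔭 r (h 𝔭 h𝔭) g hg
    have h2 : brank 𝔭 g ≤ brank 𝔭 m :=
      brank_mono_family 𝔭 g m (fun i => ⟨i.succ, by simp [m]⟩)
    have h3 : htD k 𝔭 ≤ k := Nat.sub_le _ _
    refine (min_le_right _ _).trans ?_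
    omega
  obtain ⟨s, -, hs⟩ := exists_basic_element (dimFun_htX k) m hm
  exact ⟨s, fun 𝔭 h𝔭 => (one_le_brank_singleton_iff 𝔭 s).mp (hs 𝔭 h𝔭)⟩

end Groth.Agent.Helper9.BasicElt
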