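import Mathlib
import Groth.Agent.Lib.Helper9.BasicElt.Global

/-!
# Basic elements relative to a fixed family
-/

namespace Groth.Agent.Helper9.BasicElt

open Module

variable {R : Type*} [CommRing R] {M : Type*} [AddCommGroup M] [Module R M]

/-- rank at `𝔭` of a family modulo a subspace of the space of values -/
noncomputable def qrank (𝔭 : PrimeSpectrum R)
    (S : Submodule 𝔭.asIdeal.ResidueField (Module.Dual R M → 𝔭.asIdeal.ResidueField))
    {ι : Type*} (m : ι → M) : ℕ :=
  finrank 𝔭.asIdeal.ResidueField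
    (Submodule.span 𝔭.asIdeal.ResidueField (Set.range fun i => S.mkQ (ev 𝔭 (m i))))

variable (𝔭 : PrimeSpectrum R)
  (S : Submodule 𝔭.asIdeal.ResidueField (Module.Dual R M → 𝔭.asIdeal.ResidueField))

theorem ev_smul (a : R) (x : M) :
    ev 𝔭 (a • x) = algebraMap R 𝔭.asIdeal.ResidueField a • ev 𝔭 x := by
  rw [map_smul]
  funext φ
  simp [Algebra.smul_def]

theorem mkQ_ev_shearM {r : ℕ} (m : Fin (r + 1) → M) (a : Fin r → R) :
    (fun i => S.mkQ (ev 𝔭 (shearM m a i))) =
      shear (fun i => S.mkQ (ev 𝔭 (m i)))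
        (fun i => algebraMap R 𝔭.asIdeal.ResidueField (a i)) := by
  funext i
  show S.mkQ (ev 𝔭 (m i.castSucc + a i • m (Fin.last r))) = _
  rw [map_add, ev_smul, map_add, map_smul]
  rfl

theorem qrank_le_shearM_add_one {r : ℕ} (m : Fin (r + 1) → M) (a : Fin r → R) :
    qrank 𝔭 S m ≤ qrank 𝔭 S (shearM m a) + 1 := by
  unfold qrank
  rw [mkQ_ev_shearM]
  exact finrank_span_le_shear_add_one _ _

theorem qrank_shearM_congr {r : ℕ} (m : Fin (r + 1) → M)
    (a a' : Fin r → R) (h : ∀ i, a i - a' i ∈ 𝔭.asIdeal) :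
    qrank 𝔭 S (shearM m a) = qrank 𝔭 S (shearM m a') := by
  unfold qrank
  rw [mkQ_ev_shearM, mkQ_ev_shearM]
  have : (fun i => algebraMap R 𝔭.asIdeal.ResidueField (a i)) =
      (fun i => algebraMap R 𝔭.asIdeal.ResidueField (a' i)) := by
    funext i
    rw [← sub_eq_zero, ← map_sub, Ideal.algebraMap_residueField_eq_zero]
    exact h i
  rw [this]

theorem qrank_shearM_or {r : ℕ} (m : Fin (r + 1) → M)
    (a : Fin r → R) (w : ℕ) (hw : w ≤ qrank 𝔭 S m) :
    min r w ≤ qrank 𝔭 S (shearM m a) ∨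
      ∃ i : Fin r, ∀ t : R, t ∉ 𝔭.asIdeal →
        min r w ≤ qrank 𝔭 S (shearM m (Function.update a i (a i + t))) := by
  classical
  unfold qrank at hw ⊢
  rcases exists_update_finrank_ge (fun i => S.mkQ (ev 𝔭 (m i)))
    (fun i => algebraMap R 𝔭.asIdeal.ResidueField (a i)) w hw with h | ⟨i, hi⟩
  · left
    rw [mkQ_ev_shearM]
    exact h
  · right
    refine ⟨i, fun t ht => ?_⟩
    have hβ : algebraMap R 𝔭.asIdeal.ResidueField t ≠ 0 := by
      rwa [Ne, Ideal.algebraMap_residueField_eq_zero]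
    have := hi _ hβ
    have hfun : (fun k => algebraMap R 𝔭.asIdeal.ResidueField (Function.update a i (a i + t) k)) =
        Function.update (fun k => algebraMap R 𝔭.asIdeal.ResidueField (a k)) i
          (algebraMap R 𝔭.asIdeal.ResidueField (a i) + algebraMap R 𝔭.asIdeal.ResidueField t) := by
      funext k
      by_cases hk : k = i
      · subst hk
        simp
      · simp [Function.update_of_ne hk]
    rw [mkQ_ev_shearM, hfun]
    exact this

/-- rank relative to a fixed family `s` -/
noncomputable abbrev rbrank {h : ℕ} (s : Fin h → M) {ι : Type*} (m : ι → M) : ℕ :=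
  qrank 𝔭 (Submodule.span 𝔭.asIdeal.ResidueField (Set.range fun j => ev 𝔭 (s j))) m

theorem range_append {α : Type*} {h r : ℕ} (s : Fin h → α) (m : Fin r → α) :
    Set.range (Fin.append s m) = Set.range s ∪ Set.range m := by
  ext x
  constructor
  · rintro ⟨i, rfl⟩
    refine Fin.addCases (fun j => ?_) (fun j => ?_) i
    · left; exact ⟨j, by rw [Fin.append_left]⟩
    · right; exact ⟨j, by rw [Fin.append_right]⟩
  · rintro (⟨j, rfl⟩ | ⟨j, rfl⟩)
    · exact ⟨Fin.castAdd r j, Fin.append_left _ _ _⟩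
    · exact ⟨Fin.natAdd h j, Fin.append_right _ _ _⟩

/-- additivity of ranks -/
theorem brank_append {h r : ℕ} (s : Fin h → M) (m : Fin r → M) :
    brank 𝔭 (Fin.append s m) = brank 𝔭 s + rbrank 𝔭 s m := by
  set κ := 𝔭.asIdeal.ResidueField
  set S := Submodule.span κ (Set.range fun j => ev 𝔭 (s j)) with hS
  set T := Submodule.span κ (Set.range fun j => ev 𝔭 (m j)) with hT
  have hU : Submodule.span κ (Set.range fun i => ev 𝔭 (Fin.append s m i)) = S ⊔ T := by
    have : (Set.range fun i => ev 𝔭 (Fin.append s m i)) =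
        (Set.range fun j => ev 𝔭 (s j)) ∪ (Set.range fun j => ev 𝔭 (m j)) := by
      have h1 : (fun i => ev 𝔭 (Fin.append s m i)) =
          Fin.append (fun j => ev 𝔭 (s j)) (fun j => ev 𝔭 (m j)) := by
        funext i
        refine Fin.addCases (fun j => ?_) (fun j => ?_) i
        · simp [Fin.append_left]
        · simp [Fin.append_right]
      rw [h1, range_append]
    rw [this, Submodule.span_union]
  have hq : Submodule.span κ (Set.range fun i => S.mkQ (ev 𝔭 (m i))) =
      (S ⊔ T).map S.mkQ := by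
    have h1 : (S ⊔ T).map S.mkQ = T.map S.mkQ := by
      rw [Submodule.map_sup, Submodule.mkQ_map_self, bot_sup_eq]
    rw [h1, hT, Submodule.map_span, ← Set.range_comp]
    rfl
  unfold brank rbrank qrank
  rw [hU, ← hS, hq]
  have hfinU : FiniteDimensional κ (S ⊔ T : Submodule κ _) := by
    rw [← hU]
    exact FiniteDimensional.span_of_finite _ (Set.finite_range _)
  have hSU : S ≤ S ⊔ T := le_sup_left
  have key := LinearMap.finrank_range_add_finrank_ker (S.mkQ.domRestrict (S ⊔ T))
  rw [LinearMap.range_domRestrict, LinearMap.ker_domRestrict, Submodule.ker_mkQ] at key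
  rw [← key, (Submodule.comapSubtypeEquivOfLe hSU).finrank_eq, add_comm]

theorem rbrank_lt_iff {h r : ℕ} (s : Fin h → M) (hs : brank 𝔭 s = h) (m : Fin r → M) (w : ℕ) :
    rbrank 𝔭 s m < w ↔ minorIdeal (Fin.append s m) (h + w) ≤ 𝔭.asIdeal := by
  rw [← brank_lt_iff, brank_append, hs]
  omega

end Groth.Agent.Helper9.BasicElt
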