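import Mathlib
import Groth.Agent.Lib.Helper9.BasicElt.RelGlobal

/-!
# The maximal spectrum: closed sets, vanishing ideals and a generalized dimension function
-/

namespace Groth.Agent.Helper9.BasicElt

open Module TopologicalSpace

variable {R : Type*} [CommRing R]

/-- zero locus in the maximal spectrum -/
def zl (I : Ideal R) : Set (MaximalSpectrum R) := {x | I ≤ x.asIdeal}

theorem zl_eq_preimage (I : Ideal R) :
    zl I = MaximalSpectrum.toPrimeSpectrum ⁻¹' PrimeSpectrum.zeroLocus (I : Set R) := by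
  ext x
  simp [zl, PrimeSpectrum.mem_zeroLocus, MaximalSpectrum.toPrimeSpectrum]

theorem isClosed_zl (I : Ideal R) : IsClosed (zl I) := by
  rw [zl_eq_preimage]
  exact (PrimeSpectrum.isClosed_zeroLocus _).preimage MaximalSpectrum.toPrimeSpectrum_continuous

theorem exists_zl_of_isClosed {S : Set (MaximalSpectrum R)} (hS : IsClosed S) :
    ∃ I : Ideal R, S = zl I := by
  rw [isClosed_induced_iff] at hS
  obtain ⟨T, hT, rfl⟩ := hS
  obtain ⟨I, rfl⟩ := (PrimeSpectrum.isClosed_iff_zeroLocus_ideal T).mp hT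
  exact ⟨I, (zl_eq_preimage I).symm⟩

/-- vanishing ideal of a set of maximal ideals -/
def vi (S : Set (MaximalSpectrum R)) : Ideal R := ⨅ x ∈ S, x.asIdeal

theorem mem_vi {S : Set (MaximalSpectrum R)} {a : R} : a ∈ vi S ↔ ∀ x ∈ S, a ∈ x.asIdeal := by
  simp [vi]

theorem le_vi {S : Set (MaximalSpectrum R)} {I : Ideal R} : I ≤ vi S ↔ S ⊆ zl I := by
  simp only [vi, le_iInf_iff]
  rfl

theorem vi_anti {S T : Set (MaximalSpectrum R)} (h : S ⊆ T) : vi T ≤ vi S := by
  intro a ha
  rw [mem_vi] at ha ⊢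
  exact fun x hx => ha x (h hx)

theorem zl_vi_of_isClosed {S : Set (MaximalSpectrum R)} (hS : IsClosed S) : zl (vi S) = S := by
  obtain ⟨I, rfl⟩ := exists_zl_of_isClosed hS
  apply Set.Subset.antisymm
  · intro x hx
    exact le_trans (le_vi.mpr (Set.Subset.refl _)) hx
  · exact le_vi.mp le_rfl

theorem vi_isPrime {S : Set (MaximalSpectrum R)} (hS : IsIrreducible S) : (vi S).IsPrime := by
  obtain ⟨x₀, hx₀⟩ := hS.nonempty
  refine ⟨?_, ?_⟩
  · intro htop
    have : (1 : R) ∈ vi S := by rw [htop]; trivial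
    exact x₀.isMaximal.ne_top ((Ideal.eq_top_iff_one _).mpr (mem_vi.mp this x₀ hx₀))
  · intro a b hab
    have hcov : S ⊆ zl (Ideal.span {a}) ∪ zl (Ideal.span {b}) := by
      intro x hx
      have := mem_vi.mp hab x hx
      rcases x.isMaximal.isPrime.mem_or_mem this with h | h
      · left
        show Ideal.span {a} ≤ x.asIdeal
        rwa [Ideal.span_singleton_le_iff_mem]
      · right
        show Ideal.span {b} ≤ x.asIdeal
        rwa [Ideal.span_singleton_le_iff_mem]
    rcases (isPreirreducible_iff_isClosed_union_isClosed.mp hS.isPreirreducible) _ _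
      (isClosed_zl _) (isClosed_zl _) hcov with h | h
    · left
      rw [mem_vi]
      intro x hx
      have := h hx
      exact (Ideal.span_singleton_le_iff_mem _).mp this
    · right
      rw [mem_vi]
      intro x hx
      have := h hx
      exact (Ideal.span_singleton_le_iff_mem _).mp this

/-- the prime ideal of an irreducible closed subset of the maximal spectrum -/
def pr (W : IrreducibleCloseds (MaximalSpectrum R)) : PrimeSpectrum R :=
  ⟨vi (W : Set (MaximalSpectrum R)), vi_isPrime W.isIrreducible⟩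

theorem pr_asIdeal (W : IrreducibleCloseds (MaximalSpectrum R)) :
    (pr W).asIdeal = vi (W : Set (MaximalSpectrum R)) := rfl

theorem zl_pr (W : IrreducibleCloseds (MaximalSpectrum R)) :
    zl (pr W).asIdeal = (W : Set (MaximalSpectrum R)) :=
  zl_vi_of_isClosed W.isClosed

theorem pr_le_pr_iff {W W' : IrreducibleCloseds (MaximalSpectrum R)} :
    pr W ≤ pr W' ↔ W' ≤ W := by
  constructor
  · intro h
    have h' : vi (W : Set (MaximalSpectrum R)) ≤ vi (W' : Set (MaximalSpectrum R)) := h
    show (W' : Set (MaximalSpectrum R)) ⊆ W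
    rw [← zl_pr W, ← zl_pr W']
    intro x hx
    exact le_trans h' hx
  · intro h
    exact vi_anti h

theorem pr_lt_pr_iff {W W' : IrreducibleCloseds (MaximalSpectrum R)} :
    pr W < pr W' ↔ W' < W := by
  rw [lt_iff_le_not_ge, lt_iff_le_not_ge, pr_le_pr_iff, pr_le_pr_iff]

theorem pr_injective : Function.Injective (pr (R := R)) := by
  intro W W' h
  exact le_antisymm (pr_le_pr_iff.mp h.ge) (pr_le_pr_iff.mp h.le)

section rank

variable {M : Type*} [AddCommGroup M] [Module R M]

/-- the rank at the generic point of an irreducible closed set is the maximal rank on it -/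
theorem brank_pr_lt_iff (W : IrreducibleCloseds (MaximalSpectrum R)) {r : ℕ} (m : Fin r → M)
    (w : ℕ) : brank (pr W) m < w ↔
      ∀ x ∈ (W : Set (MaximalSpectrum R)), brank x.toPrimeSpectrum m < w := by
  rw [brank_lt_iff, pr_asIdeal, le_vi]
  constructor
  · intro h x hx
    rw [brank_lt_iff]
    exact h hx
  · intro h x hx
    have := h x hx
    rw [brank_lt_iff] at this
    exact this

theorem le_brank_pr_of_mem (W : IrreducibleCloseds (MaximalSpectrum R)) {r : ℕ} (m : Fin r → M)
    {x : MaximalSpectrum R} (hx : x ∈ (W : Set (MaximalSpectrum R))) :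
    brank x.toPrimeSpectrum m ≤ brank (pr W) m := by
  by_contra hcon
  push Not at hcon
  have := (brank_pr_lt_iff W m _).mp hcon x hx
  exact lt_irrefl _ this

end rank

section dim

variable [NoetherianSpace (MaximalSpectrum R)]

/-- the set of generic points of irreducible closed sets not inside `F`, of codimension `< k` -/
def jset (F : Set (MaximalSpectrum R)) (k : ℕ) : Set (PrimeSpectrum R) :=
  {𝔭 | ∃ W : IrreducibleCloseds (MaximalSpectrum R), pr W = 𝔭 ∧
    ¬ (W : Set (MaximalSpectrum R)) ⊆ F ∧ Order.coheight W < (k : ℕ∞)}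

open Classical in
/-- the dimension function `k - 1 - codim` -/
noncomputable def jdim (k : ℕ) (𝔭 : PrimeSpectrum R) : ℕ :=
  if h : IsIrreducible (zl 𝔭.asIdeal) then
    k - 1 - (Order.coheight
      (⟨zl 𝔭.asIdeal, h, isClosed_zl _⟩ : IrreducibleCloseds (MaximalSpectrum R))).toNat
  else 0

omit [NoetherianSpace (MaximalSpectrum R)] in
theorem jdim_pr (k : ℕ) (W : IrreducibleCloseds (MaximalSpectrum R)) :
    jdim k (pr W) = k - 1 - (Order.coheight W).toNat := by
  have h : IsIrreducible (zl (pr W).asIdeal) := by rw [zl_pr]; exact W.isIrreducible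
  have hW : (⟨zl (pr W).asIdeal, h, isClosed_zl _⟩ : IrreducibleCloseds (MaximalSpectrum R)) = W :=
    IrreducibleCloseds.ext (zl_pr W)
  rw [jdim, dif_pos h, hW]

theorem dimFun_jset (F : Set (MaximalSpectrum R)) (k : ℕ) :
    DimFun (jset (R := R) F k) (jdim k) := by
  constructor
  · rintro 𝔭 ⟨W, rfl, hWF, hWk⟩ 𝔮 ⟨W', rfl, hW'F, hW'k⟩ hlt
    rw [jdim_pr, jdim_pr]
    have hlt' : W' < W := pr_lt_pr_iff.mp hlt
    have h1 := Order.coheight_add_one_le hlt'
    obtain ⟨c, hc⟩ := ENat.ne_top_iff_exists.mp (ne_top_of_lt hWk)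
    obtain ⟨c', hc'⟩ := ENat.ne_top_iff_exists.mp (ne_top_of_lt hW'k)
    rw [← hc] at h1 hWk
    rw [← hc'] at h1 hW'k
    rw [← hc, ← hc', ENat.toNat_natCast, ENat.toNat_natCast]
    have h1' : c + 1 ≤ c' := by exact_mod_cast h1
    have h2' : c' < k := by exact_mod_cast hW'k
    omega
  · intro I
    classical
    obtain ⟨S, hSfin, hSclosed, hSirr, hSU⟩ :=
      NoetherianSpace.exists_finite_set_isClosed_irreducible (isClosed_zl I)
    have hfin1 : {W : IrreducibleCloseds (MaximalSpectrum R) |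
        (W : Set (MaximalSpectrum R)) ∈ S}.Finite :=
      hSfin.preimage (fun W _ W' _ h => IrreducibleCloseds.ext h)
    have hfin2 : (pr '' {W : IrreducibleCloseds (MaximalSpectrum R) |
        (W : Set (MaximalSpectrum R)) ∈ S ∧ ¬ (W : Set (MaximalSpectrum R)) ⊆ F ∧
          Order.coheight W < (k : ℕ∞)}).Finite :=
      (hfin1.subset (fun W hW => hW.1)).image _
    refine ⟨hfin2.toFinset, ?_, ?_⟩
    · intro 𝔮 h𝔮
      rw [Set.Finite.mem_toFinset] at h𝔮
      obtain ⟨W, ⟨hWS, hWF, hWk⟩, rfl⟩ := h𝔮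
      refine ⟨⟨W, rfl, hWF, hWk⟩, ?_⟩
      rw [pr_asIdeal, le_vi, hSU]
      exact Set.subset_sUnion_of_mem hWS
    · rintro 𝔭 ⟨W₀, rfl, hW₀F, hW₀k⟩ hI
      rw [pr_asIdeal, le_vi, hSU] at hI
      obtain ⟨t, htS, hW₀t⟩ := isIrreducible_iff_sUnion_isClosed.mp W₀.isIrreducible
        hSfin.toFinset (fun z hz => hSclosed z (hSfin.mem_toFinset.mp hz))
        (by rw [Set.Finite.coe_toFinset]; exact hI)
      rw [Set.Finite.mem_toFinset] at htS
      let Wt : IrreducibleCloseds (MaximalSpectrum R) := ⟨t, hSirr t htS, hSclosed t htS⟩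
      have hle : W₀ ≤ Wt := hW₀t
      refine ⟨pr Wt, ?_, pr_le_pr_iff.mpr hle⟩
      rw [Set.Finite.mem_toFinset]
      refine ⟨Wt, ⟨htS, fun hsub => hW₀F (hW₀t.trans hsub), ?_⟩, rfl⟩
      exact lt_of_le_of_lt (Order.coheight_anti hle) hW₀k

end dim

end Groth.Agent.Helper9.BasicElt
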