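import Mathlib
import Groth.Agent.Lib.Helper9.BasicElt.Unimod

/-!
# Serre's splitting theorem, iterated
-/

namespace Groth.Agent.Helper9.BasicElt

open Module

variable {R : Type*} [CommRing R] {P : Type*} [AddCommGroup P] [Module R P]
  {A : Type*} [AddCommGroup A] [Module R A]

section retract

variable (f : A →ₗ[R] P) (g : P →ₗ[R] A) (h : g ∘ₗ f = LinearMap.id)

include h in
theorem retract_apply (y : A) : g (f y) = y := by
  have := LinearMap.congr_fun h y
  simpa using this

/-- the projection of `P` onto `ker g` along `range f` -/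
def kerProj : P →ₗ[R] LinearMap.ker g :=
  (LinearMap.id - f ∘ₗ g).codRestrict (LinearMap.ker g) (fun x => by
    simp only [LinearMap.mem_ker, LinearMap.sub_apply, LinearMap.id_coe, id_eq,
      LinearMap.coe_comp, Function.comp_apply, map_sub, retract_apply f g h, sub_self])

theorem kerProj_coe (x : P) : (kerProj f g h x : P) = x - f (g x) := rfl

theorem kerProj_of_mem (x : LinearMap.ker g) : kerProj f g h x = x := by
  apply Subtype.ext
  rw [kerProj_coe, x.2, map_zero, sub_zero]

theorem kerProj_f (y : A) : kerProj f g h (f y) = 0 := by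
  apply Subtype.ext
  rw [kerProj_coe, retract_apply f g h, sub_self]
  rfl

/-- `P ≃ ker g × A` for a retraction `g` of `f : A → P` -/
def retractEquiv : P ≃ₗ[R] (LinearMap.ker g × A) where
  toFun x := (kerProj f g h x, g x)
  invFun y := (y.1 : P) + f y.2
  map_add' x y := by simp
  map_smul' c x := by simp
  left_inv x := by simp [kerProj_coe]
  right_inv y := by
    ext
    · simp [kerProj_coe, retract_apply f g h]
    · simp [retract_apply f g h]

include h in
theorem isCompl_ker_range : IsCompl (LinearMap.ker g) (LinearMap.range f) := by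
  constructor
  · rw [Submodule.disjoint_def]
    rintro x hx ⟨y, rfl⟩
    rw [LinearMap.mem_ker, retract_apply f g h] at hx
    rw [hx, map_zero]
  · rw [codisjoint_iff, eq_top_iff]
    intro x _
    have : x = (x - f (g x)) + f (g x) := by abel
    rw [this]
    exact Submodule.add_mem_sup (kerProj f g h x).2 ⟨g x, rfl⟩

include h in
theorem projective_ker [Module.Projective R P] : Module.Projective R (LinearMap.ker g) :=
  Module.Projective.of_split (LinearMap.ker g).subtype (kerProj f g h)
    (LinearMap.ext fun x => kerProj_of_mem f g h x)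

include h in
theorem finite_ker [Module.Finite R P] : Module.Finite R (LinearMap.ker g) :=
  Module.Finite.of_surjective (kerProj f g h) (fun x => ⟨x, kerProj_of_mem f g h x⟩)

end retract

/-- iterated Serre splitting: a free direct summand of rank `k` as long as `k + dim R ≤ rank` -/
theorem exists_retract_fin [IsNoetherianRing R] (d₀ : ℕ) (hdim : ringKrullDim R = d₀)
    [Module.Finite R P] [Module.Projective R P] (k : ℕ)
    (hrk : ∀ 𝔭 : PrimeSpectrum R, d₀ + k ≤ Module.rankAtStalk P 𝔭) :
    ∃ (f : (Fin k → R) →ₗ[R] P) (g : P →ₗ[R] (Fin k → R)), g ∘ₗ f = LinearMap.id := by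
  induction k with
  | zero => exact ⟨0, 0, LinearMap.ext fun x => Subsingleton.elim _ _⟩
  | succ k ih =>
    obtain ⟨f, g, h⟩ := ih (fun 𝔭 => by have := hrk 𝔭; omega)
    have hproj := projective_ker f g h
    have hfin := finite_ker f g h
    have hrkK : ∀ 𝔭 : PrimeSpectrum R, d₀ < Module.rankAtStalk (LinearMap.ker g) 𝔭 := by
      intro 𝔭
      have h1 := congrFun (Module.rankAtStalk_eq_of_equiv (retractEquiv f g h)) 𝔭
      have h2 := congrFun (Module.rankAtStalk_prod (R := R) (LinearMap.ker g) (Fin k → R)) 𝔭
      have hnt : Nontrivial R := by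
        by_contra hnt
        rw [not_nontrivial_iff_subsingleton] at hnt
        rw [ringKrullDim_eq_bot_of_subsingleton] at hdim
        exact absurd hdim (by simp)
      have h3 : Module.rankAtStalk (Fin k → R) 𝔭 = k := by
        rw [Module.rankAtStalk_eq_finrank_of_free]
        simp
      rw [h2, Pi.add_apply, h3] at h1
      have := hrk 𝔭
      omega
    obtain ⟨s, ψ, hψ⟩ := exists_unimodular d₀ hdim hrkK
    let π := kerProj f g h
    refine ⟨(LinearMap.proj (0 : Fin (k + 1))).smulRight (s : P) +
        f ∘ₗ LinearMap.funLeft R R Fin.succ,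
      (Fin.consLinearEquiv R (fun _ : Fin (k + 1) => R)).toLinearMap ∘ₗ (ψ ∘ₗ π).prod g, ?_⟩
    apply LinearMap.ext
    intro c
    funext i
    simp only [LinearMap.coe_comp, LinearEquiv.coe_coe, Function.comp_apply, LinearMap.add_apply,
      LinearMap.smulRight_apply, LinearMap.proj_apply, LinearMap.prod_apply,
      Fin.consLinearEquiv_apply, map_add, map_smul, LinearMap.id_coe, id_eq]
    have hs : g (s : P) = 0 := s.2
    have hπs : π s = s := kerProj_of_mem f g h s
    have hπf : ∀ y, π (f y) = 0 := kerProj_f f g h
    refine Fin.cases ?_ (fun j => ?_) i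
    · simp [hπs, hπf, hψ]
    · simp [hs, retract_apply f g h, LinearMap.funLeft]

end Groth.Agent.Helper9.BasicElt
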