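import Mathlib
import Groth.Agent.Lib.Helper9.BasicElt.Split

/-!
# Quotient of a free module over a local ring by a unimodular element (helper9)
-/

universe u
namespace Groth.Agent.Helper9.BasicElt
open Module

theorem quotient_free_of_unimodular {L : Type u} [CommRing L] [IsLocalRing L] {P : Type u}
    [AddCommGroup P] [Module L P] (r : ℕ) (e : P ≃ₗ[L] (Fin r → L)) (g : P →ₗ[L] L) (u : P)
    (hu : IsUnit (g u)) :
    Nonempty ((P ⧸ Submodule.span L {u}) ≃ₗ[L] (Fin (r - 1) → L)) := by
  classical
  obtain ⟨c, hc⟩ := hu
  let f : L →ₗ[L] P := LinearMap.toSpanSingleton L P ((↑c⁻¹ : L) • u)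
  have hgf : g ∘ₗ f = LinearMap.id := by
    apply LinearMap.ext
    intro y
    simp only [f, LinearMap.coe_comp, Function.comp_apply, LinearMap.toSpanSingleton_apply,
      map_smul, smul_eq_mul, LinearMap.id_coe, id_eq, ← hc, Units.inv_mul, mul_one]
  have hrange : LinearMap.range f = Submodule.span L {u} := by
    rw [LinearMap.range_toSpanSingleton]
    apply le_antisymm
    · rw [Submodule.span_singleton_le_iff_mem]
      exact Submodule.smul_mem _ _ (Submodule.mem_span_singleton_self u)
    · rw [Submodule.span_singleton_le_iff_mem]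
      have : u = (c : L) • ((↑c⁻¹ : L) • u) := by rw [smul_smul, Units.mul_inv, one_smul]
      have h2 : (c : L) • ((↑c⁻¹ : L) • u) ∈ Submodule.span L {(↑c⁻¹ : L) • u} :=
        Submodule.smul_mem _ _ (Submodule.mem_span_singleton_self _)
      rwa [← this] at h2
  have hcompl := isCompl_ker_range f g hgf
  haveI : Module.Free L P := Module.Free.of_equiv e.symm
  haveI : Module.Finite L P := Module.Finite.equiv e.symm
  haveI : Module.Projective L (LinearMap.ker g) := projective_ker f g hgf
  haveI : Module.Finite L (LinearMap.ker g) := finite_ker f g hgf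
  haveI : Module.Free L (LinearMap.ker g) := Module.free_of_flat_of_isLocalRing
  have hfr : finrank L P = r := by rw [LinearEquiv.finrank_eq e, Module.finrank_fin_fun]
  have hfr2 : finrank L P = finrank L (LinearMap.ker g) + 1 := by
    rw [LinearEquiv.finrank_eq (retractEquiv f g hgf), Module.finrank_prod, Module.finrank_self]
  have hk : finrank L (LinearMap.ker g) = r - 1 := by omega
  let b := Module.Free.chooseBasis L (LinearMap.ker g)
  have hcard : Fintype.card (Module.Free.ChooseBasisIndex L (LinearMap.ker g)) = r - 1 := by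
    rw [← Module.finrank_eq_card_chooseBasisIndex, hk]
  let e1 : (P ⧸ Submodule.span L {u}) ≃ₗ[L] LinearMap.ker g :=
    (Submodule.quotEquivOfEq _ _ hrange.symm).trans
      (Submodule.quotientEquivOfIsCompl (LinearMap.range f) (LinearMap.ker g) hcompl.symm)
  exact ⟨e1.trans (b.reindex (Fintype.equivFinOfCardEq hcard)).equivFun⟩

end Groth.Agent.Helper9.BasicElt
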