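import Mathlib
import Groth.Agent.Lib.Helper9.BasicElt.HeightX
import Groth.Agent.Lib.Helper9.BasicElt.LocalQ

/-!
# Quotient by a basic element stays locally free (helper9)
-/

universe u
namespace Groth.Agent.Helper9.BasicElt
open Module

variable {A : Type u} [CommRing A] {M : Type u} [AddCommGroup M] [Module A M]

theorem locFreeAt_quotient (𝔭 : PrimeSpectrum A) (r : ℕ) (h : LocFreeAt 𝔭 M r) (s : M)
    (φ : Module.Dual A M) (hφ : φ s ∉ 𝔭.asIdeal) :
    LocFreeAt 𝔭 (M ⧸ Submodule.span A {s}) (r - 1) := by
  obtain ⟨ψ⟩ := h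
  set S := 𝔭.asIdeal.primeCompl with hS
  set L := Localization.AtPrime 𝔭.asIdeal with hL
  let g₀ : LocalizedModule S M →ₗ[A] L :=
    IsLocalizedModule.map S (LocalizedModule.mkLinearMap S M) (Algebra.linearMap A L) φ
  let g : LocalizedModule S M →ₗ[L] L := g₀.extendScalarsOfIsLocalization S L
  set u : LocalizedModule S M := LocalizedModule.mkLinearMap S M s with hu
  have hgu : g u = algebraMap A L (φ s) := by
    show g₀ (LocalizedModule.mkLinearMap S M s) = _
    rw [IsLocalizedModule.map_apply]
    rfl
  have hunit : IsUnit (g u) := by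
    rw [hgu]
    exact IsLocalization.map_units L (⟨φ s, hφ⟩ : S)
  obtain ⟨e1⟩ := quotient_free_of_unimodular r ψ g u hunit
  have hloc : (Submodule.span A {s}).localized S = Submodule.span L {u} := by
    show (Submodule.span A {s}).localized' (Localization S) S (LocalizedModule.mkLinearMap S M) = _
    rw [Submodule.localized'_span, Set.image_singleton]
  let e2 := localizedQuotientEquiv S (Submodule.span A {s})
  exact ⟨e2.symm.trans ((Submodule.quotEquivOfEq _ _ hloc).trans e1)⟩

end Groth.Agent.Helper9.BasicElt
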