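import Mathlib
import Groth.Agent.Lib.Helper9.BasicElt.JSpec

/-!
# Translation between the quotient description `V(x) = (M/xM)/B(x)` and evaluation of forms
-/

namespace Groth.Agent.Helper9.BasicElt

open Module

variable {R : Type*} [CommRing R] {M : Type*} [AddCommGroup M] [Module R M]

/-- elements all of whose values under linear forms lie in `𝔪` -/
def Kx (𝔪 : Ideal R) : Submodule R M where
  carrier := {m | ∀ φ : M →ₗ[R] R, φ m ∈ 𝔪}
  add_mem' ha hb φ := by rw [map_add]; exact 𝔪.add_mem (ha φ) (hb φ)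
  zero_mem' φ := by rw [map_zero]; exact 𝔪.zero_mem
  smul_mem' c m hm φ := by rw [map_smul]; exact 𝔪.mul_mem_left _ (hm φ)

theorem mem_Kx {𝔪 : Ideal R} {m : M} : m ∈ Kx 𝔪 ↔ ∀ φ : M →ₗ[R] R, φ m ∈ 𝔪 := Iff.rfl

theorem smul_top_le_Kx (𝔪 : Ideal R) : (𝔪 • ⊤ : Submodule R M) ≤ Kx 𝔪 := by
  rw [Submodule.smul_le]
  intro a ha m _ φ
  rw [map_smul]
  exact 𝔪.mul_mem_right _ ha

/-- the subspace `B(x)` of `M/xM` -/
def BqOf (𝔪 : Ideal R) : Submodule (R ⧸ 𝔪) (M ⧸ (𝔪 • ⊤ : Submodule R M)) :=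
  Submodule.span (R ⧸ 𝔪)
    ((𝔪 • ⊤ : Submodule R M).mkQ '' {m : M | ∀ φ : M →ₗ[R] R, φ m ∈ 𝔪})

/-- the class of an element in `V(x) = (M/xM)/B(x)` -/
def imgOf (𝔪 : Ideal R) (m : M) : (M ⧸ (𝔪 • ⊤ : Submodule R M)) ⧸ (BqOf (M := M) 𝔪) :=
  (BqOf 𝔪).mkQ ((𝔪 • ⊤ : Submodule R M).mkQ m)

theorem imgOf_add (𝔪 : Ideal R) (m m' : M) : imgOf 𝔪 (m + m') = imgOf 𝔪 m + imgOf 𝔪 m' := by
  simp [imgOf]

theorem imgOf_smul (𝔪 : Ideal R) (c : R) (m : M) :
    imgOf 𝔪 (c • m) = Ideal.Quotient.mk 𝔪 c • imgOf 𝔪 m := by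
  unfold imgOf
  rw [map_smul, ← map_smul]
  rfl

theorem imgOf_sum (𝔪 : Ideal R) {ι : Type*} (t : Finset ι) (c : ι → R) (fam : ι → M) :
    imgOf 𝔪 (∑ i ∈ t, c i • fam i) = ∑ i ∈ t, Ideal.Quotient.mk 𝔪 (c i) • imgOf 𝔪 (fam i) := by
  classical
  induction t using Finset.induction_on with
  | empty => simp [imgOf]
  | insert a t ha ih => rw [Finset.sum_insert ha, Finset.sum_insert ha, imgOf_add, imgOf_smul, ih]

theorem imgOf_eq_zero_iff (𝔪 : Ideal R) (m : M) : imgOf 𝔪 m = 0 ↔ m ∈ Kx 𝔪 := by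
  unfold imgOf
  rw [Submodule.mkQ_apply, Submodule.Quotient.mk_eq_zero]
  constructor
  · intro h
    have hsub : (BqOf (M := M) 𝔪 : Set (M ⧸ (𝔪 • ⊤ : Submodule R M))) ⊆
        (𝔪 • ⊤ : Submodule R M).mkQ '' ((Kx 𝔪 : Submodule R M) : Set M) := by
      intro y hy
      induction hy using Submodule.span_induction with
      | mem y hy => exact hy
      | zero => exact ⟨0, (Kx 𝔪).zero_mem, by simp⟩
      | add y z _ _ hy hz =>
        obtain ⟨a, ha, rfl⟩ := hy
        obtain ⟨b, hb, rfl⟩ := hz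
        exact ⟨a + b, (Kx 𝔪).add_mem ha hb, by simp⟩
      | smul c y _ hy =>
        obtain ⟨a, ha, rfl⟩ := hy
        obtain ⟨c', rfl⟩ := Ideal.Quotient.mk_surjective c
        exact ⟨c' • a, (Kx 𝔪).smul_mem _ ha, rfl⟩
    obtain ⟨a, ha, hma⟩ := hsub h
    have : m - a ∈ (𝔪 • ⊤ : Submodule R M) := by
      rw [← Submodule.Quotient.mk_eq_zero, Submodule.Quotient.mk_sub]
      simp only [Submodule.mkQ_apply] at hma
      rw [hma, sub_self]
    have h2 := smul_top_le_Kx 𝔪 this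
    have : m = (m - a) + a := by abel
    rw [this]
    exact (Kx 𝔪).add_mem h2 ha
  · intro h
    exact Submodule.subset_span ⟨m, h, rfl⟩

/-- linear independence in `V(x)` expressed in the ring `R` -/
theorem linearIndependent_imgOf_iff (𝔪 : Ideal R) {ι : Type*} [Fintype ι] (fam : ι → M) :
    LinearIndependent (R ⧸ 𝔪) (fun i => imgOf 𝔪 (fam i)) ↔
      ∀ c : ι → R, (∑ i, c i • fam i) ∈ Kx 𝔪 → ∀ i, c i ∈ 𝔪 := by
  rw [Fintype.linearIndependent_iff]
  constructor
  · intro h c hc i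
    have := h (fun i => Ideal.Quotient.mk 𝔪 (c i)) (by
      rw [← imgOf_sum, imgOf_eq_zero_iff]; exact hc) i
    exact Ideal.Quotient.eq_zero_iff_mem.mp this
  · intro h g hg i
    choose c hc using fun i => Ideal.Quotient.mk_surjective (g i)
    have h1 : imgOf 𝔪 (∑ i, c i • fam i) = 0 := by
      rw [imgOf_sum]
      simp only [hc]
      exact hg
    rw [imgOf_eq_zero_iff] at h1
    rw [← hc i]
    exact Ideal.Quotient.eq_zero_iff_mem.mpr (h c h1 i)

theorem ev_eq_zero_iff (𝔭 : PrimeSpectrum R) (m : M) : ev 𝔭 m = 0 ↔ m ∈ Kx 𝔭.asIdeal := by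
  constructor
  · intro h φ
    have := congrFun h φ
    rwa [ev_apply, Pi.zero_apply, Ideal.algebraMap_residueField_eq_zero] at this
  · intro h
    funext φ
    rw [ev_apply, Pi.zero_apply, Ideal.algebraMap_residueField_eq_zero]
    exact h φ

/-- linear independence of values of forms at a maximal ideal expressed in the ring `R` -/
theorem linearIndependent_ev_iff (x : MaximalSpectrum R) {ι : Type*} [Fintype ι] (fam : ι → M) :
    LinearIndependent x.toPrimeSpectrum.asIdeal.ResidueField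
        (fun i => ev x.toPrimeSpectrum (fam i)) ↔
      ∀ c : ι → R, (∑ i, c i • fam i) ∈ Kx x.asIdeal → ∀ i, c i ∈ x.asIdeal := by
  have hmax : x.toPrimeSpectrum.asIdeal.IsMaximal := x.isMaximal
  rw [Fintype.linearIndependent_iff]
  have hsum : ∀ c : ι → R, ∑ i, algebraMap R x.toPrimeSpectrum.asIdeal.ResidueField (c i) •
      ev x.toPrimeSpectrum (fam i) = ev x.toPrimeSpectrum (∑ i, c i • fam i) := by
    intro c
    rw [map_sum]
    exact Finset.sum_congr rfl fun i _ => (ev_smul x.toPrimeSpectrum (c i) (fam i)).symm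
  constructor
  · intro h c hc i
    have := h (fun i => algebraMap R x.toPrimeSpectrum.asIdeal.ResidueField (c i)) (by
      rw [hsum, ev_eq_zero_iff]; exact hc) i
    exact (Ideal.algebraMap_residueField_eq_zero).mp this
  · intro h g hg i
    choose c hc using fun i =>
      Ideal.algebraMap_residueField_surjective x.toPrimeSpectrum.asIdeal (g i)
    have h1 : ev x.toPrimeSpectrum (∑ i, c i • fam i) = 0 := by
      rw [← hsum]
      simp only [hc]
      exact hg
    rw [ev_eq_zero_iff] at h1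
    rw [← hc i]
    exact (Ideal.algebraMap_residueField_eq_zero).mpr (h c h1 i)

theorem linearIndependent_imgOf_iff_ev (x : MaximalSpectrum R) {ι : Type*} [Fintype ι]
    (fam : ι → M) :
    LinearIndependent (R ⧸ x.asIdeal) (fun i => imgOf x.asIdeal (fam i)) ↔
      LinearIndependent x.toPrimeSpectrum.asIdeal.ResidueField
        (fun i => ev x.toPrimeSpectrum (fam i)) := by
  rw [linearIndependent_imgOf_iff, linearIndependent_ev_iff]

/-- linear independence and `brank` -/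
theorem linearIndependent_ev_iff_brank (𝔭 : PrimeSpectrum R) {n : ℕ} (fam : Fin n → M) :
    LinearIndependent 𝔭.asIdeal.ResidueField (fun i => ev 𝔭 (fam i)) ↔ brank 𝔭 fam = n := by
  rw [linearIndependent_iff_card_eq_finrank_span, Fintype.card_fin, brank, Set.finrank]
  exact eq_comm

end Groth.Agent.Helper9.BasicElt
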