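import Mathlib
import Groth.Agent.Lib.Helper9.BasicElt.Trans

/-!
# Serre's splitting proposition over a ring with Noetherian maximal spectrum
-/

namespace Groth.Agent.Helper9.BasicElt

open Module TopologicalSpace

variable {R : Type*} [CommRing R] {M : Type*} [AddCommGroup M] [Module R M]

theorem brank_le_card (𝔭 : PrimeSpectrum R) {n : ℕ} (fam : Fin n → M) : brank 𝔭 fam ≤ n := by
  have := finrank_range_le_card (R := 𝔭.asIdeal.ResidueField) (fun i => ev 𝔭 (fam i))
  rw [Fintype.card_fin] at this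
  exact this

theorem brank_congr_range (𝔭 : PrimeSpectrum R) {ι ι' : Type*} [Finite ι] [Finite ι']
    (m : ι → M) (m' : ι' → M) (h : Set.range m = Set.range m') : brank 𝔭 m = brank 𝔭 m' := by
  apply le_antisymm
  · exact brank_mono_family 𝔭 m m' (fun i => by
      have : m i ∈ Set.range m' := h ▸ ⟨i, rfl⟩
      obtain ⟨i', hi'⟩ := this
      exact ⟨i', hi'.symm⟩)
  · exact brank_mono_family 𝔭 m' m (fun i => by
      have : m' i ∈ Set.range m := h ▸ ⟨i, rfl⟩
      obtain ⟨i', hi'⟩ := this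
      exact ⟨i', hi'.symm⟩)

theorem range_snoc {α : Type*} {h : ℕ} (s : Fin h → α) (t : α) :
    Set.range (Fin.snoc s t : Fin (h + 1) → α) = Set.range s ∪ {t} := by
  ext x
  constructor
  · rintro ⟨i, rfl⟩
    refine Fin.lastCases ?_ (fun j => ?_) i
    · right; simp
    · left; exact ⟨j, by simp⟩
  · rintro (⟨j, rfl⟩ | rfl)
    · exact ⟨Fin.castSucc j, by simp⟩
    · exact ⟨Fin.last h, by simp⟩

theorem brank_snoc_eq_append (𝔭 : PrimeSpectrum R) {h : ℕ} (s : Fin h → M) (t : M) :
    brank 𝔭 (Fin.snoc s t : Fin (h + 1) → M) = brank 𝔭 (Fin.append s (fun _ : Fin 1 => t)) := by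
  apply brank_congr_range
  rw [range_snoc, range_append]
  congr 1
  ext x; simp

/-- the space `V(x)` has dimension at most the rank of a generating family -/
theorem le_brank_of_le_finrank (x : MaximalSpectrum R) {N : ℕ} (u : Fin N → M)
    (hu : Submodule.span R (Set.range u) = ⊤) (w : ℕ)
    (hw : w ≤ finrank (R ⧸ x.asIdeal)
      ((M ⧸ (x.asIdeal • ⊤ : Submodule R M)) ⧸ BqOf (M := M) x.asIdeal)) :
    w ≤ brank x.toPrimeSpectrum u := by
  let _ : Field (R ⧸ x.asIdeal) := Ideal.Quotient.field x.asIdeal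
  have hspan : Submodule.span (R ⧸ x.asIdeal) (Set.range fun j => imgOf x.asIdeal (u j)) = ⊤ := by
    rw [eq_top_iff]
    rintro y -
    obtain ⟨y', rfl⟩ := Submodule.mkQ_surjective _ y
    obtain ⟨m, rfl⟩ := Submodule.mkQ_surjective _ y'
    have hm : m ∈ Submodule.span R (Set.range u) := by rw [hu]; trivial
    show imgOf x.asIdeal m ∈ _
    induction hm using Submodule.span_induction with
    | mem m hm =>
      obtain ⟨j, rfl⟩ := hm
      exact Submodule.subset_span ⟨j, rfl⟩
    | zero =>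
      have : imgOf x.asIdeal (0 : M) = 0 := by simp [imgOf]
      rw [this]; exact Submodule.zero_mem _
    | add a b _ _ ha hb => rw [imgOf_add]; exact Submodule.add_mem _ ha hb
    | smul c a _ ha => rw [imgOf_smul]; exact Submodule.smul_mem _ _ ha
  have hw' : w ≤ finrank (R ⧸ x.asIdeal)
      (Submodule.span (R ⧸ x.asIdeal) (Set.range fun j => imgOf x.asIdeal (u j))) := by
    rw [hspan, finrank_top]; exact hw
  obtain ⟨j, hj⟩ := exists_linearIndependent_comp (fun j => imgOf x.asIdeal (u j)) w hw'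
  have hj' : LinearIndependent (R ⧸ x.asIdeal) (fun i => imgOf x.asIdeal ((u ∘ j) i)) := hj
  rw [linearIndependent_imgOf_iff_ev, linearIndependent_ev_iff_brank] at hj'
  rw [← hj']
  exact brank_mono_family _ _ _ (fun i => ⟨j i, rfl⟩)

/-- interpolation: an element with prescribed classes modulo finitely many distinct maximal
ideals -/
theorem exists_interpolation {n : ℕ} (xs : Fin n → MaximalSpectrum R)
    (hxs : Function.Injective xs)
    (v : ∀ i : Fin n, M ⧸ ((xs i).asIdeal • ⊤ : Submodule R M)) :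
    ∃ t₀ : M, ∀ i, ((xs i).asIdeal • ⊤ : Submodule R M).mkQ t₀ = v i := by
  classical
  have hcop : Pairwise (Function.onFun IsCoprime fun i => (xs i).asIdeal) := by
    intro i j hij
    have hi := (xs i).isMaximal
    have hj := (xs j).isMaximal
    exact Ideal.isCoprime_of_isMaximal (fun h => hij (hxs (MaximalSpectrum.ext h)))
  choose e he using fun i : Fin n =>
    Ideal.exists_forall_sub_mem_ideal hcop (fun j => if j = i then (1 : R) else 0)
  choose vt hvt using fun i => Submodule.mkQ_surjective _ (v i)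
  refine ⟨∑ i, e i • vt i, fun j => ?_⟩
  rw [← hvt j, ← sub_eq_zero, ← map_sub, Submodule.mkQ_apply, Submodule.Quotient.mk_eq_zero]
  have h1 : ∑ i, e i • vt i - vt j = ∑ i, (e i - if j = i then (1 : R) else 0) • vt i := by
    simp only [sub_smul, Finset.sum_sub_distrib, ite_smul, one_smul, zero_smul,
      Finset.sum_ite_eq, Finset.mem_univ, if_true]
  rw [h1]
  exact Submodule.sum_mem _ fun i _ => Submodule.smul_mem_smul (he i j) trivial

theorem serre_prop [NoetherianSpace (MaximalSpectrum R)] [Module.Finite R M]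
    (h : ℕ) (s : Fin h → M) (F : Set (MaximalSpectrum R))
    (n : ℕ) (xs : Fin n → MaximalSpectrum R) (hxs : Function.Injective xs)
    (hxF : ∀ i, xs i ∈ F)
    (v : ∀ i : Fin n, M ⧸ ((xs i).asIdeal • ⊤ : Submodule R M)) (k : ℕ)
    (H1 : ∀ x : MaximalSpectrum R, h + k ≤ finrank (R ⧸ x.asIdeal)
      ((M ⧸ (x.asIdeal • ⊤ : Submodule R M)) ⧸ BqOf (M := M) x.asIdeal))
    (H2 : ∀ x : MaximalSpectrum R,
      ¬ LinearIndependent (R ⧸ x.asIdeal) (fun i => imgOf x.asIdeal (s i)) → x ∈ F) :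
    ∃ (t : M) (F' : Set (MaximalSpectrum R)), IsClosed F' ∧
      (∀ i : Fin n, imgOf (xs i).asIdeal t = (BqOf (xs i).asIdeal).mkQ (v i)) ∧
      (∀ x : MaximalSpectrum R,
        ¬ LinearIndependent (R ⧸ x.asIdeal)
          (fun i => imgOf x.asIdeal ((Fin.snoc s t : Fin (h + 1) → M) i)) → x ∈ F ∪ F') ∧
      ∀ Z : IrreducibleCloseds (MaximalSpectrum R), (Z : Set (MaximalSpectrum R)) ⊆ F' →
        (k : ℕ∞) ≤ Order.coheight Z := by
  classical
  obtain ⟨N, u, hu⟩ := Module.Finite.exists_fin (R := R) (M := M)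
  obtain ⟨t₀, ht₀⟩ := exists_interpolation xs hxs v
  set J : Ideal R := Finset.univ.inf (fun i => (xs i).asIdeal) with hJdef
  have hX := dimFun_jset (R := R) F k
  -- `J` is not contained in the primes of `jset F k`
  have hJ : ∀ 𝔭 ∈ jset (R := R) F k, ¬ J ≤ 𝔭.asIdeal := by
    rintro 𝔭 ⟨W, rfl, hWF, -⟩ hle
    obtain ⟨y, hyW, hyF⟩ := Set.not_subset.mp hWF
    have h1 : J ≤ y.asIdeal := hle.trans (le_vi.mp le_rfl hyW)
    obtain ⟨i, -, hi⟩ := (Ideal.IsPrime.inf_le' y.isMaximal.isPrime).mp h1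
    have : xs i = y := MaximalSpectrum.ext ((xs i).isMaximal.eq_of_le y.isMaximal.ne_top hi)
    exact hyF (this ▸ hxF i)
  -- `s` is independent at the primes of `jset F k`
  have hbr_s : ∀ x : MaximalSpectrum R, x ∉ F → brank x.toPrimeSpectrum s = h := by
    intro x hx
    have : LinearIndependent (R ⧸ x.asIdeal) (fun i => imgOf x.asIdeal (s i)) := by
      by_contra hcon
      exact hx (H2 x hcon)
    rwa [linearIndependent_imgOf_iff_ev, linearIndependent_ev_iff_brank] at this
  have hs : ∀ 𝔭 ∈ jset (R := R) F k, brank 𝔭 s = h := by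
    rintro 𝔭 ⟨W, rfl, hWF, -⟩
    obtain ⟨y, hyW, hyF⟩ := Set.not_subset.mp hWF
    apply le_antisymm (brank_le_card _ _)
    have h1 := hbr_s y hyF
    have h2 := le_brank_pr_of_mem W s hyW
    omega
  set m : Fin (N + 1) → M := Fin.cons t₀ u with hm
  have hm_rank : ∀ 𝔭 ∈ jset (R := R) F k, min (N + 1) (jdim k 𝔭 + 1) ≤ rbrank 𝔭 s m := by
    rintro 𝔭 ⟨W, rfl, hWF, hWk⟩
    obtain ⟨y, hyW⟩ := W.isIrreducible.nonempty
    have h1 : h + k ≤ brank y.toPrimeSpectrum u := le_brank_of_le_finrank y u hu _ (H1 y)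
    have h2 : brank y.toPrimeSpectrum u ≤ brank y.toPrimeSpectrum (Fin.append s m) :=
      brank_mono_family _ _ _ (fun j => ⟨Fin.natAdd h j.succ, by
        rw [Fin.append_right, hm, Fin.cons_succ]⟩)
    have h3 := le_brank_pr_of_mem W (Fin.append s m) hyW
    have h4 := brank_append (pr W) s m
    have h5 := hs (pr W) ⟨W, rfl, hWF, hWk⟩
    have h6 : jdim k (pr W) + 1 ≤ k := by
      rw [jdim_pr]
      have : 0 < k := by
        by_contra hk
        push Not at hk
        have hk0 : k = 0 := by omega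
        rw [hk0] at hWk
        exact absurd hWk (by simp)
      omega
    have h7 : min (N + 1) (jdim k (pr W) + 1) ≤ jdim k (pr W) + 1 := min_le_right _ _
    omega
  obtain ⟨t, htJ, htbasic⟩ := exists_basic_element_rel hX J hJ s hs m hm_rank
  -- the set where `(s, t)` fails to be independent
  set Zst : Set (MaximalSpectrum R) :=
    zl (minorIdeal (Fin.snoc s t : Fin (h + 1) → M) (h + 1)) with hZst
  have hZst_iff : ∀ x : MaximalSpectrum R, x ∈ Zst ↔
      ¬ LinearIndependent (R ⧸ x.asIdeal)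
        (fun i => imgOf x.asIdeal ((Fin.snoc s t : Fin (h + 1) → M) i)) := by
    intro x
    rw [linearIndependent_imgOf_iff_ev, linearIndependent_ev_iff_brank, hZst]
    show minorIdeal _ (h + 1) ≤ x.toPrimeSpectrum.asIdeal ↔ _
    rw [← brank_lt_iff]
    have := brank_le_card x.toPrimeSpectrum (Fin.snoc s t : Fin (h + 1) → M)
    omega
  obtain ⟨S, hSfin, hSclosed, hSirr, hSU⟩ :=
    NoetherianSpace.exists_finite_set_isClosed_irreducible (isClosed_zl (R := R)
      (minorIdeal (Fin.snoc s t : Fin (h + 1) → M) (h + 1)))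
  set S' : Set (Set (MaximalSpectrum R)) := {W ∈ S | ¬ W ⊆ F} with hS'
  have hS'fin : S'.Finite := hSfin.subset (fun W hW => hW.1)
  refine ⟨t, ⋃₀ S', ?_, ?_, ?_, ?_⟩
  · rw [Set.sUnion_eq_biUnion]
    exact hS'fin.isClosed_biUnion fun W hW => hSclosed W hW.1
  · intro i
    have h1 : t - t₀ ∈ ((xs i).asIdeal • ⊤ : Submodule R M) := by
      have hle : J • Submodule.span R (Set.range fun j : Fin N => m j.succ) ≤
          ((xs i).asIdeal • ⊤ : Submodule R M) :=
        Submodule.smul_mono (Finset.inf_le (Finset.mem_univ i)) le_top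
      have : m 0 = t₀ := by rw [hm, Fin.cons_zero]
      rw [← this]
      exact hle htJ
    unfold imgOf
    congr 1
    rw [← ht₀ i, ← sub_eq_zero, ← map_sub, Submodule.mkQ_apply, Submodule.Quotient.mk_eq_zero]
    exact h1
  · intro x hx
    have hxZ : x ∈ Zst := (hZst_iff x).mpr hx
    rw [hZst, hSU] at hxZ
    obtain ⟨W, hWS, hxW⟩ := hxZ
    by_cases hWF : W ⊆ F
    · exact Or.inl (hWF hxW)
    · exact Or.inr ⟨W, ⟨hWS, hWF⟩, hxW⟩
  · intro Z hZ
    by_contra hcon
    push Not at hcon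
    obtain ⟨W, hWS', hZW⟩ := isIrreducible_iff_sUnion_isClosed.mp Z.isIrreducible
      hS'fin.toFinset (fun z hz => hSclosed z (hS'fin.mem_toFinset.mp hz).1)
      (by rw [Set.Finite.coe_toFinset]; exact hZ)
    rw [Set.Finite.mem_toFinset] at hWS'
    obtain ⟨hWS, hWF⟩ := hWS'
    let Wb : IrreducibleCloseds (MaximalSpectrum R) := ⟨W, hSirr W hWS, hSclosed W hWS⟩
    have hle : Z ≤ Wb := hZW
    have hWk : Order.coheight Wb < (k : ℕ∞) := lt_of_le_of_lt (Order.coheight_anti hle) hcon
    have hmem : pr Wb ∈ jset (R := R) F k := ⟨Wb, rfl, hWF, hWk⟩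
    have h1 := htbasic (pr Wb) hmem
    have h2 := brank_append (pr Wb) s (fun _ : Fin 1 => t)
    have h3 := hs (pr Wb) hmem
    have h4 : brank (pr Wb) (Fin.snoc s t : Fin (h + 1) → M) < h + 1 := by
      rw [brank_pr_lt_iff]
      intro x hx
      have hxZ : x ∈ Zst := by
        rw [hZst, hSU]
        exact ⟨W, hWS, hx⟩
      rw [hZst] at hxZ
      rw [brank_lt_iff]
      exact hxZ
    rw [brank_snoc_eq_append] at h4
    omega

end Groth.Agent.Helper9.BasicElt
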