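import Mathlib
import Groth.Agent.Lib.Helper9.BasicElt.SerreProp
import Groth.Agent.Lib.Helper9.BasicElt.Unimod

/-!
# Serre's splitting theorem over a ring with Noetherian maximal spectrum
-/

namespace Groth.Agent.Helper9.BasicElt

open Module TopologicalSpace

universe u

variable {R : Type u} [CommRing R] {M : Type u} [AddCommGroup M] [Module R M]

theorem span_range_imgOf_eq_top (𝔪 : Ideal R) {N : ℕ} (u : Fin N → M)
    (hu : Submodule.span R (Set.range u) = ⊤) :
    Submodule.span (R ⧸ 𝔪) (Set.range fun j => imgOf 𝔪 (u j)) = ⊤ := by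
  rw [eq_top_iff]
  rintro y -
  obtain ⟨y', rfl⟩ := Submodule.mkQ_surjective _ y
  obtain ⟨m, rfl⟩ := Submodule.mkQ_surjective _ y'
  have hm : m ∈ Submodule.span R (Set.range u) := by rw [hu]; trivial
  show imgOf 𝔪 m ∈ _
  induction hm using Submodule.span_induction with
  | mem m hm =>
    obtain ⟨j, rfl⟩ := hm
    exact Submodule.subset_span ⟨j, rfl⟩
  | zero =>
    have : imgOf 𝔪 (0 : M) = 0 := by simp [imgOf]
    rw [this]; exact Submodule.zero_mem _
  | add a b _ _ ha hb => rw [imgOf_add]; exact Submodule.add_mem _ ha hb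
  | smul c a _ ha => rw [imgOf_smul]; exact Submodule.smul_mem _ _ ha

/-- a free direct summand of rank `w` in the localization at `𝔪` forces `dim V(𝔪) ≥ w` -/
theorem le_finrank_of_local_summand [Module.FinitePresentation R M] (𝔪 : Ideal R) [𝔪.IsMaximal]
    (w : ℕ)
    (f : (Fin w → Localization.AtPrime 𝔪) →ₗ[Localization.AtPrime 𝔪]
      LocalizedModule 𝔪.primeCompl M)
    (g : LocalizedModule 𝔪.primeCompl M →ₗ[Localization.AtPrime 𝔪]
      (Fin w → Localization.AtPrime 𝔪))
    (hgf : g ∘ₗ f = LinearMap.id) :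
    w ≤ finrank (R ⧸ 𝔪) ((M ⧸ (𝔪 • ⊤ : Submodule R M)) ⧸ BqOf (M := M) 𝔪) := by
  classical
  let _ : Field (R ⧸ 𝔪) := Ideal.Quotient.field 𝔪
  set Rm := Localization.AtPrime 𝔪
  set ℓ : M →ₗ[R] LocalizedModule 𝔪.primeCompl M :=
    LocalizedModule.mkLinearMap 𝔪.primeCompl M with hℓ
  -- global forms approximating the local coordinates
  have hlift : ∀ j : Fin w, ∃ (φ : M →ₗ[R] R) (σ : 𝔪.primeCompl), ∀ m : M,
      algebraMap R Rm (φ m) = (σ : R) • (g (ℓ m)) j := by
    intro j
    let γ : M →ₗ[R] Rm :=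
      ((LinearMap.proj j : (Fin w → Rm) →ₗ[Rm] Rm).restrictScalars R) ∘ₗ
        (g.restrictScalars R) ∘ₗ ℓ
    obtain ⟨φ, σ, hφ⟩ := Module.FinitePresentation.exists_lift_of_isLocalizedModule
      𝔪.primeCompl (Algebra.linearMap R Rm) γ
    refine ⟨φ, σ, fun m => ?_⟩
    have := LinearMap.congr_fun hφ m
    simpa [γ, Submonoid.smul_def] using this
  choose φ σ hφ using hlift
  have hsurj : ∀ i : Fin w, ∃ (y : M) (τ : 𝔪.primeCompl),
      τ • f (Pi.single i 1) = ℓ y := by
    intro i
    obtain ⟨⟨y, τ⟩, h⟩ := IsLocalizedModule.surj 𝔪.primeCompl ℓ (f (Pi.single i 1))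
    exact ⟨y, τ, h⟩
  choose y τ hy using hsurj
  have hgy : ∀ i j : Fin w, (g (ℓ (y i))) j = if j = i then algebraMap R Rm (τ i) else 0 := by
    intro i j
    rw [← hy i, Submonoid.smul_def, ← algebraMap_smul Rm ((τ i : R)), map_smul]
    have h1 : g (f (Pi.single i 1)) = Pi.single i 1 := by
      have := LinearMap.congr_fun hgf (Pi.single i (1 : Rm))
      simpa using this
    rw [h1, Pi.smul_apply, Pi.single_apply, smul_eq_mul]
    split_ifs <;> simp
  have hLI : LinearIndependent (R ⧸ 𝔪) (fun i => imgOf 𝔪 (y i)) := by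
    rw [linearIndependent_imgOf_iff]
    intro c hc j
    have h1 := hc (φ j)
    rw [map_sum] at h1
    have h2 : algebraMap R Rm (∑ i, (φ j) (c i • y i)) =
        algebraMap R Rm (c j * (σ j * τ j)) := by
      rw [map_sum]
      have : ∀ i ∈ Finset.univ, algebraMap R Rm ((φ j) (c i • y i)) =
          if i = j then algebraMap R Rm (c j * (σ j * τ j)) else 0 := by
        intro i _
        rw [map_smul, smul_eq_mul, map_mul, hφ, hgy]
        by_cases hij : i = j
        · subst hij
          simp only [if_true, Algebra.smul_def, map_mul]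
          rfl
        · have hji : ¬ j = i := fun h => hij h.symm
          simp [hij, hji]
      rw [Finset.sum_congr rfl this, Finset.sum_ite_eq' Finset.univ j]
      simp
    have h3 : algebraMap R Rm (c j * (σ j * τ j)) ∈ IsLocalRing.maximalIdeal Rm := by
      rw [← h2]
      exact (IsLocalization.AtPrime.to_map_mem_maximal_iff Rm 𝔪 _).mpr h1
    rw [IsLocalization.AtPrime.to_map_mem_maximal_iff Rm 𝔪] at h3
    rcases (Ideal.IsMaximal.isPrime inferInstance).mem_or_mem h3 with h | h
    · exact h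
    · exfalso
      rcases (Ideal.IsMaximal.isPrime inferInstance).mem_or_mem h with h | h
      · exact (σ j).2 h
      · exact (τ j).2 h
  obtain ⟨N, u, hu⟩ := Module.Finite.exists_fin (R := R) (M := M)
  have hfin : Module.Finite (R ⧸ 𝔪) ((M ⧸ (𝔪 • ⊤ : Submodule R M)) ⧸ BqOf (M := M) 𝔪) := by
    refine ⟨⟨Finset.univ.image (fun j => imgOf 𝔪 (u j)), ?_⟩⟩
    rw [Finset.coe_image, Finset.coe_univ, Set.image_univ]
    exact span_range_imgOf_eq_top 𝔪 u hu
  have := hLI.fintype_card_le_finrank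
  rwa [Fintype.card_fin] at this

/-- **Serre's splitting theorem** -/
theorem serre_splitting [NoetherianSpace (MaximalSpectrum R)] [Module.FinitePresentation R M]
    (d : ℕ) (hdim : topologicalKrullDim (MaximalSpectrum R) ≤ d)
    (hM : ∀ (m : Ideal R) [m.IsMaximal],
      ∃ (f : (Fin (d + 1) → Localization.AtPrime m) →ₗ[Localization.AtPrime m]
          LocalizedModule m.primeCompl M)
        (g : LocalizedModule m.primeCompl M →ₗ[Localization.AtPrime m]
          (Fin (d + 1) → Localization.AtPrime m)),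
        g ∘ₗ f = LinearMap.id) :
    ∃ (s : M) (φ : M →ₗ[R] R), φ s = 1 := by
  have H1 : ∀ x : MaximalSpectrum R, 0 + (d + 1) ≤ finrank (R ⧸ x.asIdeal)
      ((M ⧸ (x.asIdeal • ⊤ : Submodule R M)) ⧸ BqOf (M := M) x.asIdeal) := by
    intro x
    have := x.isMaximal
    obtain ⟨f, g, hgf⟩ := hM x.asIdeal
    rw [zero_add]
    exact le_finrank_of_local_summand x.asIdeal (d + 1) f g hgf
  have H2 : ∀ x : MaximalSpectrum R,
      ¬ LinearIndependent (R ⧸ x.asIdeal)
        (fun i : Fin 0 => imgOf x.asIdeal ((Fin.elim0 : Fin 0 → M) i)) →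
        x ∈ (∅ : Set (MaximalSpectrum R)) := by
    intro x hx
    exact absurd linearIndependent_empty_type hx
  obtain ⟨t, F', -, -, hb, hc⟩ := serre_prop (R := R) (M := M) 0 Fin.elim0 ∅ 0 Fin.elim0
    (fun i => i.elim0) (fun i => i.elim0) (fun i => i.elim0) (d + 1) H1 H2
  have hF' : F' = ∅ := by
    rw [Set.eq_empty_iff_forall_notMem]
    intro x hx
    have h1 := hc ({x} : IrreducibleCloseds (MaximalSpectrum R)) (by
      intro z hz
      have : z = x := hz
      rw [this]; exact hx)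
    have h2 := Order.coheight_le_krullDim ({x} : IrreducibleCloseds (MaximalSpectrum R))
    have h3 : ((d + 1 : ℕ) : WithBot ℕ∞) ≤ (d : WithBot ℕ∞) := by
      calc ((d + 1 : ℕ) : WithBot ℕ∞)
          ≤ (Order.coheight ({x} : IrreducibleCloseds (MaximalSpectrum R)) : WithBot ℕ∞) := by
            exact_mod_cast h1
        _ ≤ Order.krullDim (IrreducibleCloseds (MaximalSpectrum R)) := h2
        _ ≤ d := hdim
    have h4 : (d + 1 : ℕ) ≤ d := by exact_mod_cast h3
    omega
  refine ⟨t, ?_⟩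
  apply exists_dual_eq_one_of_forall_isMaximal
  intro 𝔪 h𝔪
  let x : MaximalSpectrum R := ⟨𝔪, h𝔪⟩
  have hLI : LinearIndependent (R ⧸ x.asIdeal)
      (fun i => imgOf x.asIdeal ((Fin.snoc (Fin.elim0 : Fin 0 → M) t : Fin (0 + 1) → M) i)) := by
    by_contra hcon
    have := hb x hcon
    rw [hF'] at this
    simp at this
  have hne := hLI.ne_zero 0
  by_contra hcon
  push Not at hcon
  apply hne
  rw [imgOf_eq_zero_iff]
  intro φ
  have : (Fin.snoc (Fin.elim0 : Fin 0 → M) t : Fin (0 + 1) → M) 0 = t := by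
    rw [show (0 : Fin (0 + 1)) = Fin.last 0 from rfl, Fin.snoc_last]
  rw [this]
  exact hcon φ

end Groth.Agent.Helper9.BasicElt
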